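import Cfsg.Agent.H891.DG.Defs
import Cfsg.Agent.H490.Der3

/-!
# TEAM GEN, S4180: tools for `Coh` (helper891)

* `coh_of_involution` : `T = ⟨c, b⟩`, `c` an involution;
* `cohAt_of_coprime_involution` : `T = ⟨A, c⟩`, `A` a `p'`-group, `c` an involution;
* `cohAt_of_two` : `T = ⟨A, B⟩`, `p'`-groups which intersect nontrivially;
* `cohAt_of_torus`, `cohAt_of_torus'` : `T = ⟨H, u, n⟩`, `⟨H, u n⟩`, `H` a `p'`-group normalised by `n`, `u` centralised by a
  nontrivial subgroup of `H`;
* `cohAt_of_cyclic` : cyclic Sylow `p`-subgroups; `cohAt_of_not_dvd`.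
-/

set_option autoImplicit false
set_option linter.unusedSectionVars false

namespace Cfsg.Agent.H891.DG.Tools

open Cfsg.Agent.H440.TwoGen Cfsg.Agent.H891.Gen Cfsg.Agent.H891.DG Cfsg.Agent.H490.Der Subgroup

universe u v

section General

variable {H V : Type*} [Group H] [AddCommGroup V] [DistribMulAction H V]

/-- derivations `H → V` -/
abbrev Z1 (H V : Type*) [Group H] [AddCommGroup V] [DistribMulAction H V] : Type _ :=
  {z : H → V // ∀ g h : H, z (g * h) = z g + g • z h}

/-- the common kernel of a subgroup -/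
def fixed (A : Subgroup H) (V : Type*) [AddCommGroup V] [DistribMulAction H V] : AddSubgroup V where
  carrier := {v | ∀ a ∈ A, a • v = v}
  add_mem' := fun {v w} hv hw a ha => by rw [smul_add, hv a ha, hw a ha]
  zero_mem' := fun a _ => smul_zero a
  neg_mem' := fun {v} hv a ha => by rw [smul_neg, hv a ha]

theorem mem_fixed {A : Subgroup H} {v : V} : v ∈ fixed A V ↔ ∀ a ∈ A, a • v = v := Iff.rfl

/-- two derivations which agree on a subgroup and on a set which generate -/
theorem ext_of {z z' : H → V} (hz : IsDer z) (hz' : IsDer z') {A B : Subgroup H} (h : A ⊔ B = ⊤)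
    (hA : ∀ a ∈ A, z a = z' a) (hB : ∀ b ∈ B, z b = z' b) : z = z' := by
  refine IsDer.ext (S := (A : Set H) ∪ B) ?_ hz hz' ?_
  · rw [← h]
    exact (Subgroup.closure_union _ _).trans (by rw [closure_eq, closure_eq])
  · rintro s (hs | hs)
    · exact hA s hs
    · exact hB s hs

/-- agreement on the closure of a set -/
theorem eqOn_closure {z z' : H → V} (hz : IsDer z) (hz' : IsDer z') {S : Set H} (h : ∀ s ∈ S, z s = z' s) :
    ∀ g ∈ closure S, z g = z' g := by
  intro g hg
  induction hg using Subgroup.closure_induction with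
  | mem x hx => exact h x hx
  | one => rw [hz.one, hz'.one]
  | mul x y hx hy ihx ihy => rw [hz, hz', ihx, ihy]
  | inv x hx ihx => rw [hz.inv, hz'.inv, ihx]

/-- restriction to a `p'`-subgroup is inner -/
theorem exists_inner_sub [Finite H] {p : ℕ} (hp : p.Prime) (hV : ∀ v : V, p • v = 0) {A : Subgroup H}
    (hA : ¬ p ∣ Nat.card A) {z : H → V} (hz : IsDer z) : ∃ u : V, ∀ g ∈ A, z g = u - g • u := by
  obtain ⟨u, hu⟩ := exists_inner (H := ↥A) (V := V) hp hV hA (z := fun a : ↥A => z a)
    (fun g h => hz (g : H) (h : H))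
  exact ⟨u, fun g hg => hu ⟨g, hg⟩⟩

theorem small_of_two [Finite H] [Finite V] {p : ℕ} (hp : p.Prime) (hV : ∀ v : V, p • v = 0) {A B : Subgroup H}
    (hA : ¬ p ∣ Nat.card A) (hB : ¬ p ∣ Nat.card B) (h : A ⊔ B = ⊤) {g : H} (hgA : g ∈ A) (hgB : g ∈ B) {v : V}
    (hv : g • v ≠ v) : Small H V := by
  choose a ha using fun z : Z1 H V => exists_inner_sub hp hV hA z.2
  choose b hb using fun z : Z1 H V => exists_inner_sub hp hV hB z.2
  let F : Z1 H V → V × V := fun z => (a z, b z)
  have hF : Function.Injective F := by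
    intro z z' hzz
    simp only [F, Prod.mk.injEq] at hzz
    refine Subtype.ext (ext_of z.2 z'.2 h ?_ ?_)
    · intro x hx
      rw [ha z x hx, ha z' x hx, hzz.1]
    · intro x hx
      rw [hb z x hx, hb z' x hx, hzz.2]
  have hns : ¬ Function.Surjective F := by
    intro hs
    obtain ⟨z, hz⟩ := hs (v, 0)
    simp only [F, Prod.mk.injEq] at hz
    have h1 := ha z g hgA
    rw [hb z g hgB, hz.1, hz.2, smul_zero, sub_zero] at h1
    exact hv (sub_eq_zero.1 h1.symm).symm
  have h5 : Nat.card (Z1 H V) < Nat.card (V × V) := by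
    refine lt_of_le_of_ne (Nat.card_le_card_of_injective F hF) fun h6 => ?_
    exact hns ((Nat.bijective_iff_injective_and_card F).2 ⟨hF, h6⟩).2
  rw [Nat.card_prod, ← sq] at h5
  exact h5

theorem small_of_coprime_fixed [Finite H] [Finite V] {p : ℕ} (hp : p.Prime) (hV : ∀ v : V, p • v = 0)
    {A B : Subgroup H} (hA : ¬ p ∣ Nat.card A) (hB : ¬ p ∣ Nat.card B) (h : A ⊔ B = ⊤) {v : V} (hv : v ≠ 0)
    (hfix : ∀ a ∈ A, a • v = v) : Small H V := by
  classical
  choose a ha using fun z : Z1 H V => exists_inner_sub hp hV hA z.2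
  choose b hb using fun z : Z1 H V => exists_inner_sub hp hV hB z.2
  -- the class of `a z` modulo the fixed vectors of `A`
  let F : Z1 H V → (V ⧸ fixed A V) × V := fun z => (QuotientAddGroup.mk (a z), b z)
  have hF : Function.Injective F := by
    intro z z' hzz
    simp only [F, Prod.mk.injEq] at hzz
    refine Subtype.ext (ext_of z.2 z'.2 h ?_ ?_)
    · intro x hx
      rw [ha z x hx, ha z' x hx]
      have h1 := QuotientAddGroup.eq.1 hzz.1
      have h2 := h1 x hx
      rw [smul_add, smul_neg, neg_add_eq_sub, neg_add_eq_sub, sub_eq_sub_iff_add_eq_add] at h2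
      rw [sub_eq_sub_iff_add_eq_add, add_comm]
      exact h2
    · intro x hx
      rw [hb z x hx, hb z' x hx, hzz.2]
  have h5 : Nat.card (Z1 H V) ≤ Nat.card ((V ⧸ fixed A V) × V) := Nat.card_le_card_of_injective F hF
  have h6 : Nat.card (V ⧸ fixed A V) < Nat.card V := by
    have h7 := AddSubgroup.card_eq_card_quotient_mul_card_addSubgroup (fixed A V)
    have h8 : 1 < Nat.card (fixed A V) := by
      have : Nontrivial (fixed A V) := ⟨⟨⟨v, hfix⟩, 0, fun h9 => hv (congrArg Subtype.val h9)⟩⟩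
      exact Finite.one_lt_card
    have h9 : 0 < Nat.card (V ⧸ fixed A V) := Nat.card_pos
    rw [h7]
    nlinarith
  rw [Nat.card_prod] at h5
  have h7 : 0 < Nat.card V := Nat.card_pos
  show Nat.card (Z1 H V) < _
  nlinarith

theorem small_of_coprime_involution [Finite H] [Finite V] {p : ℕ} (hp : p.Prime) (hV : ∀ v : V, p • v = 0)
    {A : Subgroup H} (hA : ¬ p ∣ Nat.card A) {c : H} (hc : c ^ 2 = 1) (h : A ⊔ closure {c} = ⊤) {w : V}
    (hw : w + c • w ≠ 0) : Small H V := by
  choose a ha using fun z : Z1 H V => exists_inner_sub hp hV hA z.2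
  let F : Z1 H V → V × V := fun z => (a z, z.1 c)
  have hF : Function.Injective F := by
    intro z z' hzz
    simp only [F, Prod.mk.injEq] at hzz
    refine Subtype.ext (ext_of z.2 z'.2 h ?_ ?_)
    · intro x hx
      rw [ha z x hx, ha z' x hx, hzz.1]
    · refine eqOn_closure z.2 z'.2 ?_
      rintro s hs
      rw [Set.mem_singleton_iff] at hs
      rw [hs]
      exact hzz.2
  have hns : ¬ Function.Surjective F := by
    intro hs
    obtain ⟨z, hz⟩ := hs (0, w)
    simp only [F, Prod.mk.injEq] at hz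
    have h1 := IsDer.norm_eq_zero z.2 hc
    rw [Finset.sum_range_succ, Finset.sum_range_one, pow_zero, pow_one, one_smul, hz.2] at h1
    exact hw h1
  have h5 : Nat.card (Z1 H V) < Nat.card (V × V) := by
    refine lt_of_le_of_ne (Nat.card_le_card_of_injective F hF) fun h6 => ?_
    exact hns ((Nat.bijective_iff_injective_and_card F).2 ⟨hF, h6⟩).2
  rw [Nat.card_prod, ← sq] at h5
  exact h5

/-- `z` vanishes on `A`, `n` normalises `A`: `z n` is fixed by `A` -/
theorem mem_fixed_of_norm {z : H → V} (hz : IsDer z) {A : Subgroup H} (h0 : ∀ a ∈ A, z a = 0) {n : H}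
    (hn : ∀ a ∈ A, n⁻¹ * a * n ∈ A) : z n ∈ fixed A V := by
  intro a ha
  have h1 : z (a * n) = z (n * (n⁻¹ * a * n)) := by congr 1; group
  rw [hz, hz, h0 a ha, h0 _ (hn a ha), smul_zero, add_zero, zero_add] at h1
  exact h1

theorem small_of_torus [Finite H] [Finite V] {p : ℕ} (hp : p.Prime) (hV : ∀ v : V, p • v = 0)
    {A A₁ : Subgroup H} (hA : ¬ p ∣ Nat.card A) (hA₁ : A₁ ≤ A) {n u : H} (hn : ∀ a ∈ A, n⁻¹ * a * n ∈ A)
    (hu : ∀ a ∈ A₁, a * u = u * a) (h : A ⊔ closure {u, n} = ⊤) {g : H} (hg : g ∈ A₁) {v : V} (hv : g • v ≠ v) :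
    Small H V := by
  classical
  choose a ha using fun z : Z1 H V => exists_inner_sub hp hV hA z.2
  set C := fixed A V with hC
  set D := fixed A₁ V with hD
  -- a representative of the class of `a z` modulo `C`
  let v0 : Z1 H V → V := fun z => Quotient.out (QuotientAddGroup.mk (s := C) (a z))
  have hv0 : ∀ z : Z1 H V, -(a z) + v0 z ∈ C := by
    intro z
    have h1 : (QuotientAddGroup.mk (s := C) (a z)) = QuotientAddGroup.mk (v0 z) := (Quotient.out_eq _).symm
    exact QuotientAddGroup.eq.1 h1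
  have hza : ∀ (z : Z1 H V) (x : H), x ∈ A → z.1 x = v0 z - x • v0 z := by
    intro z x hx
    rw [ha z x hx]
    have h2 := hv0 z x hx
    rw [smul_add, smul_neg, neg_add_eq_sub, neg_add_eq_sub, sub_eq_sub_iff_add_eq_add] at h2
    rw [sub_eq_sub_iff_add_eq_add, add_comm]
    exact h2
  let z' : Z1 H V → H → V := fun z x => z.1 x - (v0 z - x • v0 z)
  have hz' : ∀ z, IsDer (z' z) := fun z => IsDer.sub z.2 (isDer_inner (v0 z))
  have hz0 : ∀ z, ∀ x ∈ A, z' z x = 0 := fun z x hx => sub_eq_zero.2 (hza z x hx)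
  have hn' : ∀ z, z' z n ∈ C := fun z => mem_fixed_of_norm (hz' z) (hz0 z) hn
  have hu' : ∀ z, z' z u ∈ D := fun z => mem_fixed_of_norm (hz' z) (fun x hx => hz0 z x (hA₁ hx)) (fun x hx => by
    have h1 : u⁻¹ * x * u = x := by rw [mul_assoc, hu x hx]; group
    rwa [h1])
  let F : Z1 H V → (V ⧸ C) × C × D := fun z => (QuotientAddGroup.mk (a z), ⟨z' z n, hn' z⟩, ⟨z' z u, hu' z⟩)
  have hF : Function.Injective F := by
    intro z w hzw
    simp only [F, Prod.mk.injEq, Subtype.mk.injEq] at hzw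
    have e0 : v0 z = v0 w := by
      show Quotient.out _ = Quotient.out _
      rw [hzw.1]
    have e1 : z.1 n = w.1 n := by
      have := hzw.2.1
      simp only [z', e0] at this
      exact sub_left_injective this
    have e2 : z.1 u = w.1 u := by
      have := hzw.2.2
      simp only [z', e0] at this
      exact sub_left_injective this
    refine Subtype.ext (ext_of z.2 w.2 h ?_ (eqOn_closure z.2 w.2 ?_))
    · intro x hx
      rw [hza z x hx, hza w x hx, e0]
    · rintro s (rfl | hs)
      · exact e2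
      · rw [Set.mem_singleton_iff] at hs
        rw [hs]
        exact e1
  have h5 : Nat.card (Z1 H V) ≤ Nat.card ((V ⧸ C) × C × D) := Nat.card_le_card_of_injective F hF
  rw [Nat.card_prod, Nat.card_prod, ← mul_assoc, ← AddSubgroup.card_eq_card_quotient_mul_card_addSubgroup C] at h5
  have h6 : Nat.card D < Nat.card V := by
    have h7 : Nat.card D ≤ Nat.card V := Nat.card_le_card_of_injective _ Subtype.val_injective
    refine lt_of_le_of_ne h7 fun h8 => ?_
    have h9 : D = ⊤ := AddSubgroup.eq_top_of_card_eq D h8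
    exact hv ((h9 ▸ AddSubgroup.mem_top v : v ∈ D) g hg)
  have h7 : 0 < Nat.card V := Nat.card_pos
  show Nat.card (Z1 H V) < _
  nlinarith

/-- restriction to a subgroup of index prime to `p` -/
theorem card_le_of_index [Finite H] [Finite V] {p : ℕ} (hp : p.Prime) (hV : ∀ v : V, p • v = 0) (B : Subgroup H)
    (hidx : ¬ p ∣ B.index) : Nat.card (Z1 H V) ≤ Nat.card (Z1 ↥B V) * Nat.card (fixed B V) := by
  classical
  -- a derivation vanishing on `B` is inner, by a vector fixed by `B`
  have key : ∀ z : H → V, IsDer z → (∀ b ∈ B, z b = 0) → ∃ s : V, s ∈ fixed B V ∧ ∀ g, z g = s - g • s := by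
    intro z hz hz0
    let _ := Fintype.ofFinite (H ⧸ B)
    obtain ⟨m, hm⟩ := Cfsg.Agent.H490.Aff.exists_inv_nsmul hp hV hidx
    have hc : ∀ g b : H, b ∈ B → z (g * b) = z g := by
      intro g b hb
      rw [hz, hz0 b hb, smul_zero, add_zero]
    let f : H ⧸ B → V := fun q => Quotient.liftOn' q z (by
      intro g g' h
      rw [QuotientGroup.leftRel_apply] at h
      have := hc g _ h
      rw [mul_inv_cancel_left] at this
      exact this.symm)
    have hcard : Fintype.card (H ⧸ B) = B.index := by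
      rw [← Nat.card_eq_fintype_card]
      rfl
    set S : V := ∑ q : H ⧸ B, f q with hS
    have key : ∀ g : H, g • S = S - B.index • z g := by
      intro g
      rw [hS, Finset.smul_sum]
      have h2 : ∀ q : H ⧸ B, g • f q = f (g • q) - z g := by
        intro q
        induction q using Quotient.inductionOn' with
        | h x =>
          show g • z x = z (g * x) - z g
          rw [hz]
          abel
      rw [Finset.sum_congr rfl (fun q _ => h2 q), Finset.sum_sub_distrib, Finset.sum_const, Finset.card_univ, hcard]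
      congr 1
      exact Fintype.sum_equiv (MulAction.toPerm g) _ _ (fun _ => rfl)
    have e1 : ∀ g, z g = m • S - g • (m • S) := by
      intro g
      rw [smul_comm g m, key g, nsmul_sub, hm]
      abel
    refine ⟨m • S, fun b hb => ?_, e1⟩
    have h1 := e1 b
    rw [hz0 b hb] at h1
    exact (sub_eq_zero.1 h1.symm).symm
  -- choose a section of the restriction
  let R : Z1 H V → Z1 ↥B V := fun z => ⟨fun b => z.1 b, fun g h => z.2 g h⟩
  let sec : Z1 ↥B V → Z1 H V := fun y => if h : ∃ z, R z = y then h.choose else ⟨0, fun _ _ => by simp⟩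
  have hsec : ∀ z, R (sec (R z)) = R z := by
    intro z
    have h : ∃ w, R w = R z := ⟨z, rfl⟩
    simp only [sec, dif_pos h]
    exact h.choose_spec
  have hex : ∀ z : Z1 H V, ∃ s : V, s ∈ fixed B V ∧ ∀ g, z.1 g - (sec (R z)).1 g = s - g • s := by
    intro z
    refine key _ (IsDer.sub z.2 (sec (R z)).2) fun b hb => ?_
    have h1 := congrFun (congrArg Subtype.val (hsec z)) ⟨b, hb⟩
    exact sub_eq_zero.2 h1.symm
  choose s hs hs' using hex
  let F : Z1 H V → Z1 ↥B V × fixed B V := fun z => (R z, ⟨s z, hs z⟩)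
  have hF : Function.Injective F := by
    intro z w hzw
    simp only [F, Prod.mk.injEq, Subtype.mk.injEq] at hzw
    refine Subtype.ext (funext fun g => ?_)
    have h1 := hs' z g
    have h2 := hs' w g
    rw [hzw.1, hzw.2, ← h2] at h1
    exact sub_left_injective h1
  rw [← Nat.card_prod]
  exact Nat.card_le_card_of_injective F hF

end General

section Simple

variable {T : Type u} [Group T] [Finite T] [IsSimpleGroup T] {p : ℕ}

/-- A nontrivial module of a simple group is faithful. -/
theorem faithful {V : Type*} [AddCommGroup V] [DistribMulAction T V] (h : ∃ (g : T) (v : V), g • v ≠ v) {g : T}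
    (hg : g ≠ 1) : ∃ v : V, g • v ≠ v := by
  by_contra hne
  push Not at hne
  let K : Subgroup T :=
    { carrier := {x | ∀ v : V, x • v = v}
      mul_mem' := fun {a b} ha hb v => by rw [mul_smul, hb, ha]
      one_mem' := fun v => one_smul T v
      inv_mem' := fun {a} ha v => by rw [inv_smul_eq_iff]; exact (ha v).symm }
  have hK : K.Normal := ⟨fun x hx y v => by
    rw [mul_smul, mul_smul, hx, smul_inv_smul]⟩
  rcases hK.eq_bot_or_eq_top with h1 | h1
  · exact hg ((Subgroup.mem_bot).1 (h1 ▸ (show g ∈ K from hne)))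
  · obtain ⟨x, v, hx⟩ := h
    exact hx ((h1 ▸ Subgroup.mem_top x : x ∈ K) v)

theorem cohAt_congr {T' : Type v} {T : Type v} [Group T] [Group T'] (e : T ≃* T') {p : ℕ} (h : CohAt p T) :
    CohAt p T' := by
  intro V _ _ _ hV hirr hne
  let _ : DistribMulAction T V := DistribMulAction.compHom V e.toMonoidHom
  have hs : ∀ (g : T) (v : V), g • v = e g • v := fun _ _ => rfl
  have h1 : Small T V := by
    refine h V hV ?_ ?_
    · intro U hU
      refine hirr U fun g u hu => ?_
      have := hU (e.symm g) u hu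
      rwa [hs, e.apply_symm_apply] at this
    · obtain ⟨g, v, hg⟩ := hne
      refine ⟨e.symm g, v, ?_⟩
      rwa [hs, e.apply_symm_apply]
  exact small_congr e (AddEquiv.refl V) (fun g v => rfl) h1

theorem coh_congr {T' : Type v} {T : Type v} [Group T] [Group T'] (e : T ≃* T') (h : Coh T) : Coh T' :=
  fun p hp => cohAt_congr e (h p hp)

theorem cohAt_of_not_dvd (hp : p.Prime) (h : ¬ p ∣ Nat.card T) : CohAt p T := by
  intro V _ _ _ hV hirr hne
  obtain ⟨g, v, hg⟩ := hne
  have : Nontrivial V := ⟨⟨g • v, v, hg⟩⟩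
  exact small_of_coprime hp hV h

theorem cohAt_of_cyclic (hp : p.Prime) (P : Sylow p T) (h : IsCyclic ↥P) : CohAt p T := by
  intro V _ _ _ hV hirr hne
  by_cases hpT : p ∣ Nat.card T
  swap
  · exact cohAt_of_not_dvd hp hpT V hV hirr hne
  have : Fact p.Prime := ⟨hp⟩
  have h1 := card_le_of_index (V := V) hp hV (P : Subgroup T) P.not_dvd_index
  obtain ⟨⟨x, hx⟩, hgen⟩ := h.exists_generator
  have h2 : Nat.card (Z1 ↥(P : Subgroup T) V) ≤ Nat.card V := by
    refine Nat.card_le_card_of_injective (fun z => z.1 ⟨x, hx⟩) fun z w hzw => ?_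
    refine Subtype.ext (IsDer.ext (S := {⟨x, hx⟩}) ?_ z.2 w.2 ?_)
    · rw [eq_top_iff]
      intro y _
      rw [← Subgroup.zpowers_eq_closure]
      exact hgen y
    · rintro s hs
      rw [Set.mem_singleton_iff] at hs
      rw [hs]
      exact hzw
  have hP : (P : Subgroup T) ≠ ⊥ := P.ne_bot_of_dvd_card hpT
  have hex : ∃ y ∈ (P : Subgroup T), y ≠ 1 := by
    by_contra hne'
    push Not at hne'
    exact hP ((Subgroup.eq_bot_iff_forall _).2 hne')
  obtain ⟨y, hy, hy1⟩ := hex
  obtain ⟨v, hv⟩ := faithful hne hy1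
  have h6 : Nat.card (fixed (P : Subgroup T) V) < Nat.card V := by
    have h7 : Nat.card (fixed (P : Subgroup T) V) ≤ Nat.card V :=
      Nat.card_le_card_of_injective _ Subtype.val_injective
    refine lt_of_le_of_ne h7 fun h8 => ?_
    have h9 : fixed (P : Subgroup T) V = ⊤ := AddSubgroup.eq_top_of_card_eq _ h8
    exact hv ((h9 ▸ AddSubgroup.mem_top v : v ∈ fixed (P : Subgroup T) V) y hy)
  have h7 : 0 < Nat.card V := Nat.card_pos
  show Nat.card (Z1 T V) < _
  calc Nat.card (Z1 T V) ≤ _ := h1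
    _ ≤ Nat.card V * Nat.card (fixed (P : Subgroup T) V) := Nat.mul_le_mul_right _ h2
    _ < Nat.card V * Nat.card V := Nat.mul_lt_mul_of_pos_left h6 h7
    _ = _ := (sq _).symm

/-- an element `c ≠ 1` does not act as `-1` -/
theorem exists_not_neg (hna : ¬ IsMulCommutative T) {V : Type*} [AddCommGroup V] [DistribMulAction T V]
    (h : ∃ (g : T) (v : V), g • v ≠ v) {c : T} (hc1 : c ≠ 1) : ∃ w : V, w + c • w ≠ 0 := by
  by_contra hne
  push Not at hne
  have h1 : ∀ w : V, c • w = -w := fun w => (neg_eq_of_add_eq_zero_right (hne w)).symm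
  -- `c` is central
  have h2 : c ∈ Subgroup.center T := by
    rw [Subgroup.mem_center_iff]
    intro g
    by_contra h3
    have h4 : g * c * g⁻¹ * c⁻¹ ≠ 1 := by
      intro h5
      apply h3
      rw [mul_inv_eq_one, mul_inv_eq_iff_eq_mul] at h5
      exact h5
    obtain ⟨v, hv⟩ := faithful h h4
    apply hv
    have h6 : c⁻¹ • v = -v := by
      rw [inv_smul_eq_iff, smul_neg, h1, neg_neg]
    rw [mul_smul, mul_smul, mul_smul, h6, smul_neg, smul_neg, h1, smul_neg, smul_neg, smul_inv_smul, neg_neg]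
  have h3 : Subgroup.center T = ⊥ := by
    rcases (inferInstance : (Subgroup.center T).Normal).eq_bot_or_eq_top with h4 | h4
    · exact h4
    · exfalso
      apply hna
      exact ⟨⟨fun a b => ((Subgroup.mem_center_iff.1 (h4 ▸ Subgroup.mem_top a)) b).symm⟩⟩
  rw [h3, Subgroup.mem_bot] at h2
  exact hc1 h2

/-- `T = ⟨c, b⟩` with an involution `c`. -/
theorem coh_of_involution (hna : ¬ IsMulCommutative T) {c b : T} (hc : c ^ 2 = 1) (hc1 : c ≠ 1)
    (h : closure ({c, b} : Set T) = ⊤) : Coh T := by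
  intro p hp V _ _ _ hV hirr hne
  obtain ⟨w, hw⟩ := exists_not_neg hna hne hc1
  refine small_of_norm h hc (v := w) ?_
  rw [Finset.sum_range_succ, Finset.sum_range_one, pow_zero, pow_one, one_smul]
  exact hw

theorem cohAt_of_coprime_involution (hp : p.Prime) (hna : ¬ IsMulCommutative T) {A : Subgroup T} {c : T}
    (hA : ¬ p ∣ Nat.card A) (hc : c ^ 2 = 1) (hc1 : c ≠ 1) (h : A ⊔ closure {c} = ⊤) : CohAt p T := by
  intro V _ _ _ hV hirr hne
  obtain ⟨w, hw⟩ := exists_not_neg hna hne hc1
  exact small_of_coprime_involution hp hV hA hc h hw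

theorem cohAt_of_two (hp : p.Prime) {A B : Subgroup T} (hA : ¬ p ∣ Nat.card A) (hB : ¬ p ∣ Nat.card B)
    (h : A ⊔ B = ⊤) (hAB : A ⊓ B ≠ ⊥) : CohAt p T := by
  intro V _ _ _ hV hirr hne
  have hex : ∃ y ∈ A ⊓ B, y ≠ 1 := by
    by_contra hne'
    push Not at hne'
    exact hAB ((Subgroup.eq_bot_iff_forall _).2 hne')
  obtain ⟨y, hy, hy1⟩ := hex
  obtain ⟨v, hv⟩ := faithful hne hy1
  exact small_of_two hp hV hA hB h hy.1 hy.2 hv

/-- the torus lemma -/
theorem cohAt_of_torus (hp : p.Prime) {H H₁ : Subgroup T} {n u : T} (hH : ¬ p ∣ Nat.card H)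
    (hn : ∀ h ∈ H, n⁻¹ * h * n ∈ H) (hH₁ : H₁ ≤ H) (hne : H₁ ≠ ⊥)
    (hu : ∀ h ∈ H₁, h * u = u * h) (h : H ⊔ closure {u, n} = ⊤) : CohAt p T := by
  intro V _ _ _ hV hirr hne'
  have hex : ∃ y ∈ H₁, y ≠ 1 := by
    by_contra hne''
    push Not at hne''
    exact hne ((Subgroup.eq_bot_iff_forall _).2 hne'')
  obtain ⟨y, hy, hy1⟩ := hex
  obtain ⟨v, hv⟩ := faithful hne' hy1
  exact small_of_torus hp hV hH hH₁ hn hu h hy hv

theorem cohAt_of_torus' (hp : p.Prime) {H H₁ : Subgroup T} {n u : T} (hH : ¬ p ∣ Nat.card H)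
    (hn : ∀ h ∈ H, n⁻¹ * h * n ∈ H) (hH₁ : H₁ ≤ H) (hne : H₁ ≠ ⊥)
    (hu : ∀ h ∈ H₁, h * u = u * h) (h : H ⊔ closure {u * n} = ⊤) : CohAt p T := by
  refine cohAt_of_torus hp hH hn hH₁ hne hu ?_
  rw [eq_top_iff, ← h]
  refine sup_le_sup_left ?_ _
  rw [closure_le]
  rintro _ rfl
  exact mul_mem (subset_closure (by simp)) (subset_closure (by simp))

end Simple

end Cfsg.Agent.H891.DG.Tools
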