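import Cfsg.Agent.H891.DG.Defs
import Cfsg.Agent.H891.DG.Tools
import Cfsg.Agent.H648.DG.CohPsl2
import Cfsg.Agent.H648.DG.CohPsl
import Cfsg.Agent.H795.DG.CohPSp
import Cfsg.Agent.H753.CohRows
import Cfsg.Agent.H528.DG.CohTwF
import Cfsg.Agent.H555.DG.TitsCoh
import Cfsg.Agent.H569.DG.CohJ
import Cfsg.Agent.H68.DG.CohJ4Ly
import Cfsg.Agent.H440.DG.Coh
import Cfsg.Agent.H184.DG.CohFi
import Cfsg.Agent.H109.DG.HN
import Cfsg.Agent.H109.DG.Th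
import Cfsg.Agent.H261.DG.BM
import Cfsg.Agent.H288.DG.UntwRow
import Cfsg.Agent.H855.DG.Rk2
import Cfsg.Agent.H748.DG.Rk2
import Cfsg.Agent.H274.DG.CohRk2
import Cfsg.Agent.H288.DG.TwRow
import Cfsg.Agent.H911.DG.PsuCoh
import Cfsg.Agent.H79.DG.Rows
import Cfsg.Agent.H581.DG.CohAlt
import Cfsg.Agent.H902.DG.CohPSU3
import Cfsg.Agent.H291.DG.CohMathieu
import Cfsg.Agent.H291.DG.CohConway
import Cfsg.Agent.H291.DG.CohHS

/-! # S4180: the rows of `Coh` (TEAM GEN) -/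

set_option autoImplicit false

namespace Cfsg.Agent.H891.DG.RC

open Cfsg.Agent.H891.DG

universe u

/-- `Coh` from the defining characteristic and a root group datum of rank at least 2. -/
theorem coh_of_rk2 {T : Type u} [Group T] [Finite T] [IsSimpleGroup T] {F : Type*} [Field F] [Finite F]
    (h1 : ∀ r : ℕ, r.Prime → CharP F r → Rk2 r T)
    (h2 : ∀ p : ℕ, p.Prime → CharP F p → ¬ IsMulCommutative T → CohAt p T) : Coh T := by
  by_cases hna : IsMulCommutative T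
  · exact Cfsg.Agent.H261.DG.BM.coh_of_comm hna
  obtain ⟨r, hr⟩ := CharP.exists F
  have hrp : r.Prime := (CharP.char_is_prime_or_zero F r).resolve_right (CharP.char_ne_zero_of_finite F r)
  have : Fact r.Prime := ⟨hrp⟩
  intro p hp
  by_cases hpr : p = r
  · subst hpr
    exact h2 p hp hr hna
  · exact Cfsg.Agent.H274.DG.cohAt_of_rk2 hp hpr hna (h1 r hrp hr)

theorem psl (T : Type u) [Group T] [Finite T] [IsSimpleGroup T] (F : Type) [Field F] [Fintype F] (n : ℕ)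
    (hn : 3 ≤ n) (e : Nonempty (T ≃* Matrix.ProjectiveSpecialLinearGroup (Fin n) F)) : Coh T :=
  coh_of_rk2 (F := F) (fun _ _ _ => Cfsg.Agent.H748.DG.rk2_psl hn e)
    (fun _ hp _ hna => Cfsg.Agent.H648.DG.cohAt_psl hna F n hn hp e)

theorem psp (T : Type u) [Group T] [Finite T] [IsSimpleGroup T] (F : Type) [Field F] [Fintype F] (m : ℕ)
    (hm : 2 ≤ m) (h3 : m = 2 → 3 ≤ Fintype.card F) (e : Nonempty (T ≃* Cfsg.PSp m F)) : Coh T :=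
  coh_of_rk2 (F := F) (fun _ _ _ => Cfsg.Agent.H748.DG.rk2_psp hm e)
    (fun _ hp _ _ => Cfsg.Agent.H795.DG.cohAt_psp hm h3 e hp)

theorem g2 (T : Type u) [Group T] [Finite T] [IsSimpleGroup T] (h : Cfsg.Lie.IsoChevG2 T) : Coh T := by
  obtain ⟨F, _, _, h3, ⟨e⟩⟩ := h
  exact coh_of_rk2 (F := F) (fun r _ _ => Cfsg.Agent.H855.DG.rk2_G2 F r e)
    (fun p _ _ hna => Cfsg.Agent.H288.DG.UntwRow.cohAt_g2 hna e h3 p)

theorem f4 (T : Type u) [Group T] [Finite T] [IsSimpleGroup T] (h : Cfsg.Lie.IsoF4 T) : Coh T := by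
  obtain ⟨F, _, _, ⟨e⟩⟩ := h
  exact coh_of_rk2 (F := F) (fun r _ _ => Cfsg.Agent.H855.DG.rk2_F4 F r e)
    (fun p _ _ hna => Cfsg.Agent.H288.DG.UntwRow.cohAt_f4 hna e p)

theorem e6 (T : Type u) [Group T] [Finite T] [IsSimpleGroup T] (h : Cfsg.Lie.IsoChevE6 T) : Coh T := by
  obtain ⟨F, _, _, ⟨e⟩⟩ := h
  exact coh_of_rk2 (F := F) (fun r _ _ => Cfsg.Agent.H855.DG.rk2_E6 F r e)
    (fun p _ _ hna => Cfsg.Agent.H288.DG.UntwRow.cohAt_e6 hna e p)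

theorem e7 (T : Type u) [Group T] [Finite T] [IsSimpleGroup T] (h : Cfsg.Lie.IsoE7 T) : Coh T := by
  obtain ⟨F, _, _, ⟨e⟩⟩ := h
  exact coh_of_rk2 (F := F) (fun r _ _ => Cfsg.Agent.H855.DG.rk2_E7 F r e)
    (fun p _ _ hna => Cfsg.Agent.H288.DG.UntwRow.cohAt_e7 hna e p)

theorem e8 (T : Type u) [Group T] [Finite T] [IsSimpleGroup T] (h : Cfsg.Lie.IsoE8 T) : Coh T := by
  obtain ⟨F, _, _, ⟨e⟩⟩ := h
  exact coh_of_rk2 (F := F) (fun r _ _ => Cfsg.Agent.H855.DG.rk2_E8 F r e)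
    (fun p _ _ hna => Cfsg.Agent.H288.DG.UntwRow.cohAt_e8 hna e p)

theorem twE6 (T : Type u) [Group T] [Finite T] [IsSimpleGroup T] (h : Cfsg.Lie.Iso2E6 T) : Coh T := by
  obtain ⟨K, _, _, q, hq, hK, ⟨e⟩⟩ := h
  exact coh_of_rk2 (F := K) (fun r _ _ => Cfsg.Agent.H855.DG.rk2_tE6 hq hK r e)
    (fun p _ _ _ => Cfsg.Agent.H288.DG.TwRow.cohAt_twE6 e hK p)

theorem twD4 (T : Type u) [Group T] [Finite T] [IsSimpleGroup T] (h : Cfsg.Lie.Iso3D4 T) : Coh T := by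
  obtain ⟨K, _, _, q, hq, hK, ⟨e⟩⟩ := h
  exact coh_of_rk2 (F := K) (fun r _ _ => Cfsg.Agent.H855.DG.rk2_tD4 hq hK r e)
    (fun p _ _ _ => Cfsg.Agent.H288.DG.TwRow.cohAt_twD4 e hK p)

theorem odd (T : Type u) [Group T] [Finite T] [IsSimpleGroup T] (h : Cfsg.IsPOmegaOdd T) : Coh T := by
  obtain ⟨F, _, _, m, hm, ho, ⟨e⟩⟩ := h
  exact coh_of_rk2 (F := F) (fun r _ _ => Cfsg.Agent.H748.DG.rk2_odd (by omega) ho ⟨e⟩)
    (fun p hp _ _ => Cfsg.Agent.H79.DG.cohAt_POmegaOdd hp ho hm e)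

theorem plus (T : Type u) [Group T] [Finite T] [IsSimpleGroup T] (h : Cfsg.IsPOmegaPlus T) : Coh T := by
  obtain ⟨F, _, _, m, hm, ⟨e⟩⟩ := h
  exact coh_of_rk2 (F := F) (fun r _ _ => Cfsg.Agent.H748.DG.rk2_plus (by omega) ⟨e⟩)
    (fun p hp _ _ => Cfsg.Agent.H79.DG.cohAt_POmegaPlus hp hm e)

theorem minus (T : Type u) [Group T] [Finite T] [IsSimpleGroup T] (h : Cfsg.IsPOmegaMinus T) : Coh T := by
  obtain ⟨F, _, _, m, a, b, hm, hab, ⟨e⟩⟩ := h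
  exact coh_of_rk2 (F := F) (fun r _ _ => Cfsg.Agent.H748.DG.rk2_minus (by omega) hab ⟨e⟩)
    (fun p hp _ _ => Cfsg.Agent.H79.DG.cohAt_POmegaMinus hp hm hab e)

theorem spor (T : Type u) [Group T] [Finite T] [IsSimpleGroup T] (h : Cfsg.IsSporadicGroup T) : Coh T := by
  rcases h with h | h | h | h | h | h | h | h | h | h | h | h | h | h | h | h | h | h | h | h | h | h | h | h | h | h
  · exact Cfsg.Agent.H291.DG.coh_m11 h
  · exact Cfsg.Agent.H291.DG.coh_m12 h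
  · exact Cfsg.Agent.H291.DG.coh_m22 h
  · exact Cfsg.Agent.H291.DG.coh_m23 h
  · exact Cfsg.Agent.H291.DG.coh_m24 h
  · exact Cfsg.Agent.H569.DG.coh_j1 h
  · exact Cfsg.Agent.H569.DG.coh_j2 h
  · exact Cfsg.Agent.H569.DG.coh_j3 h
  · exact Cfsg.Agent.H68.DG.CohJ4Ly.coh_j4 h
  · exact Cfsg.Agent.H291.DG.coh_co1 h
  · exact Cfsg.Agent.H291.DG.coh_co2 h
  · exact Cfsg.Agent.H291.DG.coh_co3 h
  · exact Cfsg.Agent.H291.DG.coh_mcl h
  · exact Cfsg.Agent.H291.DG.coh_hs h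
  · exact Cfsg.Agent.H291.DG.coh_suz h
  · exact Cfsg.Agent.H440.DG.Coh.coh_he h
  · exact Cfsg.Agent.H440.DG.Coh.coh_ru h
  · exact Cfsg.Agent.H440.DG.Coh.coh_on h
  · exact Cfsg.Agent.H68.DG.CohJ4Ly.coh_ly h
  · exact Cfsg.Agent.H184.DG.CohFi.coh_fi22 h
  · exact Cfsg.Agent.H184.DG.CohFi.coh_fi23 h
  · exact Cfsg.Agent.H184.DG.CohFi.coh_fi24' h
  · exact Cfsg.Agent.H109.DG.coh_hn h
  · exact Cfsg.Agent.H109.DG.coh_th h
  · exact Cfsg.Agent.H261.DG.BM.coh_b h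
  · exact Cfsg.Agent.H261.DG.BM.coh_m h

theorem psu (T : Type u) [Group T] [Finite T] [IsSimpleGroup T] (F : Type) [Field F] [Fintype F] (n q : ℕ)
    (hn : 4 ≤ n) (hF : Fintype.card F = q ^ 2) (e : Nonempty (T ≃* Cfsg.PSU n F q)) : Coh T :=
  coh_of_rk2 (F := F) (fun _ _ _ => Cfsg.Agent.H748.DG.rk2_psu hF hn e)
    (fun _ hp _ _ => Cfsg.Agent.H911.DG.cohAt_psu hn hF hp e.some)

theorem rowsCoh : Rows.{u} Coh where
  alt := Cfsg.Agent.H581.DG.coh_alt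
  psl2 := fun _ _ _ _ F _ _ h4 e => Cfsg.Agent.H648.DG.coh_psl2 F h4 e
  psl := psl
  psp := psp
  psu3 := Cfsg.Agent.H902.DG.CohU3.coh_psu3
  psu := psu
  odd := odd
  plus := plus
  minus := minus
  g2 := g2
  f4 := f4
  e6 := e6
  e7 := e7
  e8 := e8
  twE6 := twE6
  twD4 := twD4
  sz := Cfsg.Agent.H753.CohRows.coh_sz
  ree := Cfsg.Agent.H753.CohRows.coh_ree
  twF4 := Cfsg.Agent.H528.DG.coh_twF4
  tits := fun _ _ _ _ h => Cfsg.Agent.H555.DG.TitsCoh.coh_tits h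
  spor := spor

end Cfsg.Agent.H891.DG.RC
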