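import Cfsg.Agent.H891.DG.Defs
import Cfsg.Agent.H285.DG.AltCos
import Cfsg.Agent.H984.DG.CosRows
import Cfsg.Agent.H172.DG.PslRow
import Cfsg.Agent.H875.DG.Sp4Even
import Cfsg.Agent.H306.DG.RowPsu
import Cfsg.Agent.H245.DG.GTwo
import Cfsg.Agent.H95.DG.CosF4
import Cfsg.Agent.H20.Cos2.ESix
import Cfsg.Agent.H65.Cos.E78
import Cfsg.Agent.H157.DG.TwE6Fin
import Cfsg.Agent.H38.DG.TwD4Cos
import Cfsg.Agent.H42.Cos.TwF4Row
import Cfsg.Agent.H42.Cos.TitsRow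
import Cfsg.Agent.H973.DG.Spor
import Cfsg.Agent.H831.DG.J2Row
import Cfsg.Agent.H831.DG.J3Row
import Cfsg.Agent.H831.DG.McLRow
import Cfsg.Agent.H831.DG.SuzRow
import Cfsg.Agent.H440.DG.He
import Cfsg.Agent.H440.DG.ONan
import Cfsg.Agent.H184.DG.CosFi
import Cfsg.Agent.H68.DG.CosHN
import Cfsg.Agent.H97.DG.SpCos
import Cfsg.Agent.H989.DG.Plus
import Cfsg.Agent.H237.D4C.Row
import Cfsg.Agent.H48.DG.Odd
import Cfsg.Agent.H827.DG.Minus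

/-! # S4180: the rows of `Cos2` (TEAM GEN) -/

set_option autoImplicit false

namespace Cfsg.Agent.H891.DG.RCos

open Cfsg.Agent.H891.DG

universe u

theorem cos2_spor (T : Type u) [Group T] [Finite T] [IsSimpleGroup T] (h : Cfsg.IsSporadicGroup T) : Cos2 T := by
  rcases h with h | h | h | h | h | h | h | h | h | h | h | h | h | h | h | h | h | h | h | h | h | h | h | h | h | h
  · exact Cfsg.Agent.H973.DG.Spor.m11 h
  · exact Cfsg.Agent.H973.DG.Spor.m12 h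
  · exact Cfsg.Agent.H973.DG.Spor.m22 h
  · exact Cfsg.Agent.H973.DG.Spor.m23 h
  · exact Cfsg.Agent.H973.DG.Spor.m24 h
  · exact Cfsg.Agent.H973.DG.Spor.j1 h
  · exact Cfsg.Agent.H831.DG.J2Row.cos2_j2 h
  · exact Cfsg.Agent.H831.DG.J3Row.cos2_j3 h
  · exact Cfsg.Agent.H973.DG.Spor.j4 h
  · exact Cfsg.Agent.H973.DG.Spor.co1 h
  · exact Cfsg.Agent.H973.DG.Spor.co2 h
  · exact Cfsg.Agent.H973.DG.Spor.co3 h
  · exact Cfsg.Agent.H831.DG.McLRow.cos2_mcl h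
  · exact Cfsg.Agent.H973.DG.Spor.hs h
  · exact Cfsg.Agent.H831.DG.SuzRow.cos2_suz h
  · exact Cfsg.Agent.H440.DG.He.cos2_he h
  · exact Cfsg.Agent.H973.DG.Spor.ru h
  · exact Cfsg.Agent.H440.DG.ONan.cos2_on h
  · exact Cfsg.Agent.H973.DG.Spor.ly h
  · exact Cfsg.Agent.H184.DG.CosFi.cos2_fi22 h
  · exact Cfsg.Agent.H973.DG.Spor.fi23 h
  · exact Cfsg.Agent.H184.DG.CosFi.cos2_fi24' h
  · exact Cfsg.Agent.H68.DG.CosHN.cos2_hn h
  · exact Cfsg.Agent.H973.DG.Spor.th h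
  · exact Cfsg.Agent.H973.DG.Spor.b h
  · exact Cfsg.Agent.H973.DG.Spor.m h

theorem psp (T : Type u) [Group T] [Finite T] [IsSimpleGroup T] (F : Type) [Field F] [Fintype F] (m : ℕ)
    (hm : 2 ≤ m) (h3 : m = 2 → 3 ≤ Fintype.card F) (e : Nonempty (T ≃* Cfsg.PSp m F)) : Cos2 T := by
  by_cases h : 3 ≤ m ∨ (2 : F) ≠ 0
  · exact Cfsg.Agent.H97.DG.psp_row T F m hm h e
  · push Not at h
    obtain ⟨h1, h2⟩ := h
    obtain rfl : m = 2 := by omega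
    have h4 : CharP F 2 := CharTwo.of_one_ne_zero_of_two_eq_zero one_ne_zero h2
    have hev : Even (Fintype.card F) := by
      obtain ⟨k, -, hk⟩ := FiniteField.card F 2
      rw [hk]
      exact (even_two).pow_of_ne_zero k.ne_zero
    exact Cfsg.Agent.H875.DG.Sp4Even.cos2_psp4_even' F hev (h3 rfl) e

theorem rowsCos : Rows.{u} Cos2 where
  alt := Cfsg.Agent.H285.DG.cos2_alt
  psl2 := Cfsg.Agent.H984.DG.cos2_psl2
  psl := Cfsg.Agent.H172.DG.cos2_psl_row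
  psp := psp
  psu3 := Cfsg.Agent.H984.DG.cos2_psu3
  psu := Cfsg.Agent.H306.DG.cos2_psu
  odd := fun _ _ _ _ h => Cfsg.Agent.H48.DG.Odd.cos2_odd h
  plus := Cfsg.Agent.H989.DG.cos2_plus_row fun _ _ _ _ _ _ _ e => Cfsg.Agent.H237.D4C.cos2_plus_four e.some
  minus := fun _ _ _ _ h => Cfsg.Agent.H827.DG.Minus.cos2_minus h
  g2 := Cfsg.Agent.H245.DG.G2.row
  f4 := Cfsg.Agent.H95.DG.CosF4.cos2_f4
  e6 := Cfsg.Agent.H20.Cos2.cos2_e6
  e7 := Cfsg.Agent.H65.Cos.cos2_e7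
  e8 := Cfsg.Agent.H65.Cos.cos2_e8
  twE6 := Cfsg.Agent.H157.DG.TwE6.cos2_row_twE6
  twD4 := Cfsg.Agent.H38.DG.TwD4.cos2_twD4
  sz := Cfsg.Agent.H984.DG.cos2_sz
  ree := Cfsg.Agent.H984.DG.cos2_ree
  twF4 := fun _ _ _ _ h => Cfsg.Agent.H42.Cos.cos2_twF4 h
  tits := fun _ _ _ _ h => Cfsg.Agent.H42.Cos.cos2_tits h
  spor := cos2_spor

end Cfsg.Agent.H891.DG.RCos
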