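import Cfsg.Agent.H891.DG.Crt

/-!
# TEAM GEN, S4180: the wreath structure, basic facts (helper891)
-/

set_option autoImplicit false
set_option linter.unusedSectionVars false

namespace Cfsg.Agent.H891.DG.WrB

open Subgroup Cfsg.Agent.H891.DG

universe u

theorem conj_injective {T : Type*} [Group T] [IsSimpleGroup T] (hna : ¬ IsMulCommutative T) :
    Function.Injective (MulAut.conj : T →* MulAut T) := by
  rw [← MonoidHom.ker_eq_bot_iff]
  rcases (inferInstance : (MulAut.conj : T →* MulAut T).ker.Normal).eq_bot_or_eq_top with h | h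
  · exact h
  · exfalso
    apply hna
    refine ⟨⟨fun a b => ?_⟩⟩
    have h1 : a ∈ (MulAut.conj : T →* MulAut T).ker := h ▸ mem_top a
    rw [MonoidHom.mem_ker] at h1
    have h2 := DFunLike.congr_fun h1 b
    rw [MulAut.conj_apply, MulAut.one_apply, mul_inv_eq_iff_eq_mul] at h2
    exact h2

theorem conj_map {T : Type*} [Group T] (α : MulAut T) (t : T) :
    MulAut.conj (α t) = α * MulAut.conj t * α⁻¹ := by
  ext x
  simp [MulAut.conj_apply, MulAut.mul_apply]

/-- an automorphism which centralises the inner automorphisms is trivial -/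
theorem eq_one_of_comm {T : Type*} [Group T] [IsSimpleGroup T] (hna : ¬ IsMulCommutative T) {α : MulAut T}
    (h : ∀ t : T, α * MulAut.conj t = MulAut.conj t * α) : α = 1 := by
  ext t
  apply conj_injective hna
  rw [conj_map, h, mul_inv_cancel_right]
  rfl

theorem finite_mulAut (T : Type*) [Group T] [Finite T] : Finite (MulAut T) :=
  Finite.of_injective (fun f : MulAut T => (f : T → T)) DFunLike.coe_injective

theorem card_mulAut {T : Type u} [Group T] [IsSimpleGroup T] (hna : ¬ IsMulCommutative T) :
    Nat.card (MulAut T) = Nat.card (Cfsg.Out T) * Nat.card T := by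
  have h1 := (MulAut.conj : T →* MulAut T).range.index_mul_card
  rw [← h1]
  congr 1
  exact (Nat.card_congr (MonoidHom.ofInjective (conj_injective hna)).toEquiv).symm

section

variable {G : Type u} [Group G] {M : Subgroup G} {I T : Type u} [Group T] (W : Wr G M I T)

include W

theorem f_one (i : I) : W.f 1 i = 1 := by
  have h := W.mul 1 1 i
  rw [mul_one, map_one, Equiv.Perm.one_apply] at h
  exact (mul_eq_left.1 h.symm)

theorem f_inv (x : G) (i : I) : W.f x⁻¹ (W.σ x i) = (W.f x i)⁻¹ := by
  have h := W.mul x⁻¹ x i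
  rw [inv_mul_cancel, f_one] at h
  exact eq_inv_of_mul_eq_one_left h.symm

theorem σ_inv (x : G) (i : I) : W.σ x⁻¹ (W.σ x i) = i := by
  rw [map_inv]
  exact (W.σ x).symm_apply_apply i

theorem σ_inv' (x : G) (i : I) : W.σ x (W.σ x⁻¹ i) = i := by
  rw [map_inv]
  exact (W.σ x).apply_symm_apply i

theorem ext {x y : G} (h1 : W.σ x = W.σ y) (h2 : ∀ i, W.f x i = W.f y i) : x = y := by
  have h3 : x⁻¹ * y = 1 := by
    apply W.inj
    · rw [map_mul, map_inv, h1, inv_mul_cancel]
    · intro i
      rw [W.mul, ← h1, f_inv, h2, inv_mul_cancel]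
  exact (inv_mul_eq_one.1 h3)

theorem σ_mem {m : G} (hm : m ∈ M) : W.σ m = 1 := ((W.mem m).1 hm).1

theorem σ_mul_mem (x : G) {m : G} (hm : m ∈ M) : W.σ (x * m) = W.σ x := by
  rw [map_mul, σ_mem W hm, mul_one]

theorem f_mul_mem (x : G) {m : G} (hm : m ∈ M) (i : I) : W.f (x * m) i = W.f x i * W.f m i := by
  rw [W.mul, σ_mem W hm, Equiv.Perm.one_apply]

/-- conjugation of elements of `M` -/
theorem f_conj (x : G) {m : G} (hm : m ∈ M) (i : I) :
    W.f (x * m * x⁻¹) (W.σ x i) = W.f x i * W.f m i * (W.f x i)⁻¹ := by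
  rw [W.mul, σ_inv, f_mul_mem W x hm, f_inv]

/-- the element of `M` with given components -/
noncomputable def el (u : I → T) : G := (W.surj u).choose

theorem el_mem (u : I → T) : el W u ∈ M := (W.surj u).choose_spec.1

theorem f_el (u : I → T) (i : I) : W.f (el W u) i = MulAut.conj (u i) := (W.surj u).choose_spec.2 i

theorem exists_el {m : G} (hm : m ∈ M) : ∃ u, el W u = m := by
  choose u hu using ((W.mem m).1 hm).2
  refine ⟨u, ext W ?_ fun i => ?_⟩
  · rw [σ_mem W (el_mem W u), σ_mem W hm]
  · rw [f_el, hu]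

variable [IsSimpleGroup T]

omit W in
/-- inner automorphisms back to elements -/
noncomputable def toT (hna : ¬ IsMulCommutative T) : ↥(MulAut.conj : T →* MulAut T).range ≃* T :=
  (MonoidHom.ofInjective (conj_injective hna)).symm

omit W in
theorem conj_toT (hna : ¬ IsMulCommutative T) (a : ↥(MulAut.conj : T →* MulAut T).range) :
    MulAut.conj (toT hna a) = a.1 := by
  obtain ⟨t, rfl⟩ := (MonoidHom.ofInjective (conj_injective hna)).surjective a
  rw [toT, MulEquiv.symm_apply_apply]
  rfl

/-- the components of an element of `M` -/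
noncomputable def pr (hna : ¬ IsMulCommutative T) (i : I) : ↥M →* T :=
  (toT hna).toMonoidHom.comp
    { toFun := fun m => ⟨W.f m i, ((W.mem m).1 m.2).2 i⟩
      map_one' := Subtype.ext (f_one W i)
      map_mul' := fun a b => Subtype.ext (f_mul_mem W a b.2 i) }

theorem conj_pr (hna : ¬ IsMulCommutative T) (i : I) (m : ↥M) : MulAut.conj (pr W hna i m) = W.f m i :=
  conj_toT hna _

theorem pr_el (hna : ¬ IsMulCommutative T) (i : I) (u : I → T) : pr W hna i ⟨el W u, el_mem W u⟩ = u i := by
  apply conj_injective hna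
  rw [conj_pr, f_el]

theorem el_injective (hna : ¬ IsMulCommutative T) : Function.Injective (el W) := by
  intro u v h
  funext i
  apply conj_injective hna
  rw [← f_el W, ← f_el W, h]

/-- bound for `|G/M|` -/
theorem card_quot_le [Fintype I] [Finite T] [M.Normal] :
    Nat.card (G ⧸ M) ≤ (Fintype.card I).factorial * Nat.card (Cfsg.Out T) ^ Fintype.card I := by
  classical
  have := finite_mulAut T
  have h0 : Nat.card (Equiv.Perm I × (I → Cfsg.Out T)) =
      (Fintype.card I).factorial * Nat.card (Cfsg.Out T) ^ Fintype.card I := by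
    rw [Nat.card_prod, Nat.card_fun, Nat.card_eq_fintype_card, Nat.card_eq_fintype_card (α := I), Fintype.card_perm]
  rw [← h0]
  refine Nat.card_le_card_of_injective (fun γ : G ⧸ M =>
    (W.σ γ.out, fun i => (QuotientGroup.mk (W.f γ.out i) : Cfsg.Out T))) ?_
  intro γ γ' h
  simp only [Prod.mk.injEq] at h
  have h1 : (γ.out)⁻¹ * γ'.out ∈ M := by
    rw [W.mem]
    refine ⟨by rw [map_mul, map_inv, h.1, inv_mul_cancel], fun i => ?_⟩
    have h2 := congrFun h.2 i
    rw [QuotientGroup.eq] at h2
    rw [W.mul, ← h.1, f_inv]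
    exact h2
  rw [← QuotientGroup.out_eq' γ, ← QuotientGroup.out_eq' γ']
  exact QuotientGroup.eq.2 h1

end

/-! ### the pieces of the counting argument -/

section

variable {G : Type u} [Group G] {M : Subgroup G} {I T : Type u} [Group T] (W : Wr G M I T)

/-- the group generated by the changed generators -/
def XX (x y : G) (R : Set G) (uv : (I → T) × (I → T)) : Subgroup G :=
  closure ({x * el W uv.1, y * el W uv.2} ∪ R)

/-- the stabiliser of `i₀` in `X` induces at least `Inn T` on the `i₀`-th copy of `T` -/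
def Big (X : Subgroup G) (i₀ : I) : Prop := ∀ t : T, ∃ z ∈ X, W.σ z i₀ = i₀ ∧ W.f z i₀ = MulAut.conj t

/-- `G`-invariant equivalence relations -/
def Inv (S : Setoid I) : Prop := ∀ (g : G) (i j : I), S i j → S (W.σ g i) (W.σ g j)

/-- the chosen representative of the class of `i` -/
noncomputable def rep (S : Setoid I) (i : I) : I := (Quotient.mk S i).out

/-- `X ∩ M` is a product of diagonal subgroups over the classes of `S`, so the components of `z ∈ X` at `i` and at
`rep S i` determine each other. -/
def TypeII (X : Subgroup G) (S : Setoid I) : Prop :=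
  ∃ ε : I → MulAut T, (∀ i, rep S i = i → ε i = 1) ∧
    ∀ z ∈ X, ∀ i, W.f z i * ε i = ε (W.σ z i) * (ε (W.σ z (rep S i)))⁻¹ * W.f z (rep S i)

end

end Cfsg.Agent.H891.DG.WrB
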