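import Cfsg.Agent.H891.DG.WrBasic

/-!
# TEAM GEN, S4180: the dichotomy (helper891)

`X M = G` and the stabiliser of `i₀` in `X` induces at least `Inn T`: then `X = G`, or `X ∩ M = 1`, or `X ∩ M` is a product of
diagonal subgroups (`TypeII`).
-/

set_option autoImplicit false
set_option linter.unusedSectionVars false

namespace Cfsg.Agent.H891.DG.WrB

open Subgroup Cfsg.Agent.H891.DG
universe u

variable {G : Type u} [Group G] {M : Subgroup G} {I T : Type u} [Group T] [IsSimpleGroup T] (W : Wr G M I T)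

/-- the components of the elements of `X ∩ M` -/
noncomputable def pi (hna : ¬ IsMulCommutative T) (X : Subgroup G) (i : I) : ↥(X ⊓ M) →* T :=
  (pr W hna i).comp (Subgroup.inclusion inf_le_right)

theorem conj_pi (hna : ¬ IsMulCommutative T) (X : Subgroup G) (i : I) (w : ↥(X ⊓ M)) :
    MulAut.conj (pi W hna X i w) = W.f w i := conj_pr W hna i _

theorem conj_mem_inf [M.Normal] {X : Subgroup G} {z w : G} (hz : z ∈ X) (hw : w ∈ X ⊓ M) : z * w * z⁻¹ ∈ X ⊓ M :=
  ⟨X.mul_mem (X.mul_mem hz hw.1) (X.inv_mem hz), Subgroup.Normal.conj_mem inferInstance _ hw.2 _⟩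

theorem pi_conj [M.Normal] (hna : ¬ IsMulCommutative T) {X : Subgroup G} {z : G} (hz : z ∈ X) (w : ↥(X ⊓ M)) (i : I) :
    pi W hna X (W.σ z i) ⟨z * w * z⁻¹, conj_mem_inf hz w.2⟩ = W.f z i (pi W hna X i w) := by
  apply conj_injective hna
  rw [conj_map, conj_pi, conj_pi]
  exact f_conj W z w.2.2 i

theorem exists_mem_of_sup [M.Normal] {X : Subgroup G} (hX : X ⊔ M = ⊤) (g : G) : ∃ z ∈ X, W.σ z = W.σ g := by
  have h1 : g ∈ X ⊔ M := hX ▸ mem_top g
  obtain ⟨z, hz, m, hm, rfl⟩ := mem_sup_of_normal_right.1 h1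
  exact ⟨z, hz, (σ_mul_mem W z hm).symm⟩

theorem ker_pi_conj [M.Normal] (hna : ¬ IsMulCommutative T) {X : Subgroup G} {z : G} (hz : z ∈ X) (i : I)
    (w : ↥(X ⊓ M)) : w ∈ (pi W hna X (W.σ z i)).ker ↔
      (⟨z⁻¹ * w * z, by simpa using conj_mem_inf (X.inv_mem hz) w.2⟩ : ↥(X ⊓ M)) ∈ (pi W hna X i).ker := by
  set v : ↥(X ⊓ M) := ⟨z⁻¹ * w * z, by simpa using conj_mem_inf (X.inv_mem hz) w.2⟩ with hv
  have h1 := pi_conj W hna hz v i
  have h2 : (⟨z * v * z⁻¹, conj_mem_inf hz v.2⟩ : ↥(X ⊓ M)) = w := by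
    apply Subtype.ext
    show z * (z⁻¹ * w * z) * z⁻¹ = w
    group
  rw [h2] at h1
  rw [MonoidHom.mem_ker, MonoidHom.mem_ker, h1]
  exact EmbeddingLike.map_eq_one_iff

variable [M.Normal]

theorem dich [Finite I] (hna : ¬ IsMulCommutative T) (X : Subgroup G) (hX : X ⊔ M = ⊤) (i₀ : I) (hB : Big W X i₀) :
    X = ⊤ ∨ X ⊓ M = ⊥ ∨ ∃ S : Setoid I, S ≠ ⊥ ∧ Inv W S ∧ TypeII W X S := by
  have htr : ∀ i, ∃ z ∈ X, W.σ z i₀ = i := by
    intro i
    obtain ⟨g, hg⟩ := W.trans i₀ i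
    obtain ⟨z, hz, h⟩ := exists_mem_of_sup W hX g
    exact ⟨z, hz, by rw [h, hg]⟩
  -- the image at `i₀` is normal
  have hnorm : (pi W hna X i₀).range.Normal := by
    refine ⟨?_⟩
    rintro _ ⟨w, rfl⟩ t
    obtain ⟨z, hz, h1, h2⟩ := hB t
    have h3 := pi_conj W hna hz w i₀
    rw [h2, MulAut.conj_apply] at h3
    rw [← h3]
    have h4 : ∀ j, W.σ z i₀ = j → pi W hna X (W.σ z i₀) ⟨z * w * z⁻¹, conj_mem_inf hz w.2⟩ =
        pi W hna X j ⟨z * w * z⁻¹, conj_mem_inf hz w.2⟩ := by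
      rintro j rfl
      rfl
    rw [h4 i₀ h1]
    exact ⟨_, rfl⟩
  rcases hnorm.eq_bot_or_eq_top with h0 | h0
  · -- `X ∩ M = 1`
    right; left
    rw [eq_bot_iff]
    intro w hw
    rw [mem_bot]
    refine W.inj w (σ_mem W hw.2) fun i => ?_
    obtain ⟨z, hz, rfl⟩ := htr i
    have h1 := pi_conj W hna hz ⟨z⁻¹ * w * z, by simpa using conj_mem_inf (X.inv_mem hz) hw⟩ i₀
    have h2 : pi W hna X i₀ ⟨z⁻¹ * w * z, by simpa using conj_mem_inf (X.inv_mem hz) hw⟩ = 1 := by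
      have h3 : pi W hna X i₀ ⟨z⁻¹ * w * z, by simpa using conj_mem_inf (X.inv_mem hz) hw⟩ ∈
        (pi W hna X i₀).range := ⟨_, rfl⟩
      rwa [h0, mem_bot] at h3
    rw [h2, map_one] at h1
    have h3 := conj_pi W hna X (W.σ z i₀) ⟨z * (z⁻¹ * w * z) * z⁻¹,
      conj_mem_inf hz (by simpa using conj_mem_inf (X.inv_mem hz) hw)⟩
    rw [h1, map_one] at h3
    have e : z * (z⁻¹ * w * z) * z⁻¹ = w := by group
    simp only [e] at h3
    exact h3.symm
  -- all the projections are surjective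
  have hs0 : Function.Surjective (pi W hna X i₀) := MonoidHom.range_eq_top.1 h0
  have hs : ∀ i, Function.Surjective (pi W hna X i) := by
    intro i t
    obtain ⟨z, hz, rfl⟩ := htr i
    obtain ⟨w, hw⟩ := hs0 ((W.f z i₀)⁻¹ t)
    refine ⟨_, (pi_conj W hna hz w i₀).trans ?_⟩
    rw [hw, MulAut.apply_inv_self]
  let S : Setoid I := Setoid.ker (fun i => (pi W hna X i).ker)
  have hSdef : ∀ i j, S i j ↔ (pi W hna X i).ker = (pi W hna X j).ker := fun i j => Iff.rfl
  by_cases hS : S = ⊥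
  · left
    have hM : M ≤ X := by
      intro m hm
      obtain ⟨z, hz⟩ := Crt.crt hna (pi W hna X) hs (fun i j hij => by
        have h1 : S i j := hij
        rw [hS] at h1
        exact h1) (fun i => pr W hna i ⟨m, hm⟩)
      have h2 : (z : G) = m := by
        refine ext W (by rw [σ_mem W z.2.2, σ_mem W hm]) fun i => ?_
        rw [← conj_pi W hna X, hz, conj_pr]
      exact h2 ▸ z.2.1
    rw [← hX]
    exact (sup_eq_left.2 hM).symm
  right; right
  have hInv : ∀ z ∈ X, ∀ i j, S i j → S (W.σ z i) (W.σ z j) := by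
    intro z hz i j hij
    rw [hSdef] at hij ⊢
    ext w
    rw [ker_pi_conj W hna hz, ker_pi_conj W hna hz, hij]
  refine ⟨S, hS, ?_, ?_⟩
  · intro g i j hij
    obtain ⟨z, hz, h⟩ := exists_mem_of_sup W hX g
    rw [← h]
    exact hInv z hz i j hij
  · have hrep : ∀ i, (pi W hna X (rep S i)).ker = (pi W hna X i).ker := by
      intro i
      rw [← hSdef]
      exact Quotient.mk_out (s := S) i
    choose ε hε using fun i => Crt.exists_aut (hs i) (hs (rep S i)) (hrep i)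
    refine ⟨ε, ?_, ?_⟩
    · intro i hi
      ext t
      obtain ⟨w, rfl⟩ := hs i t
      have h1 := hε i w
      rw [hi] at h1
      exact h1.symm
    · intro z hz i
      have hrr : rep S (W.σ z (rep S i)) = rep S (W.σ z i) := by
        unfold rep
        congr 1
        apply Quotient.sound
        exact hInv z hz _ _ (Quotient.mk_out (s := S) i)
      ext t
      obtain ⟨w, rfl⟩ := hs (rep S i) t
      rw [MulAut.mul_apply, MulAut.mul_apply, MulAut.mul_apply, ← hε i w, ← pi_conj W hna hz w i,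
        ← pi_conj W hna hz w (rep S i), hε (W.σ z i), hε (W.σ z (rep S i)), MulAut.inv_apply_self, hrr]

end Cfsg.Agent.H891.DG.WrB
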