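import Cfsg.Agent.H891.DG.WrTwo
import Cfsg.Agent.H332.DG.TypeTwo
import Cfsg.Agent.H58.DG.Numeric
import Cfsg.Agent.H530.DG.Label
import Cfsg.Agent.H799.DG.CardTypeI

/-!
# TEAM GEN, S4180: the nonabelian case (helper891)
-/

set_option autoImplicit false
set_option linter.unusedSectionVars false

namespace Cfsg.Agent.H891.DG.WrB

open Subgroup Cfsg.Agent.H891.DG Cfsg.Agent.H332.DG Cfsg.Agent.H530.DG Cfsg.Agent.H799.DG
universe u

variable {G : Type u} [Group G] [Finite G] {M : Subgroup G} [M.Normal] {I T : Type u} [Fintype I] [DecidableEq I]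
  [Group T] [Finite T] [IsSimpleGroup T] (W : Wr G M I T)

theorem XX_sup {x y : G} {R : Set G} (h : closure ({x, y} ∪ R) ⊔ M = ⊤) (uv : (I → T) × (I → T)) :
    XX W x y R uv ⊔ M = ⊤ := by
  rw [eq_top_iff, ← h]
  refine sup_le ?_ le_sup_right
  rw [closure_le]
  have key : ∀ (a : G) (u : I → T), a * el W u ∈ XX W x y R uv → a ∈ XX W x y R uv ⊔ M := by
    intro a u ha
    have e : a = (a * el W u) * (el W u)⁻¹ := by group
    rw [e]
    exact mul_mem (mem_sup_left ha) (mem_sup_right (inv_mem (el_mem W u)))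
  rintro z ((rfl | hz) | hz)
  · exact key _ uv.1 (subset_closure (by simp))
  · rw [Set.mem_singleton_iff] at hz
    subst hz
    exact key _ uv.2 (subset_closure (by simp))
  · exact mem_sup_left (subset_closure (Or.inr hz))

/-- one component -/
theorem one_comp (hna : ¬ IsMulCommutative T) (hC : Cos2 T) (hI : Fintype.card I = 1) {x y : G} {R : Set G}
    (h : closure ({x, y} ∪ R) ⊔ M = ⊤) : ∃ uv : (I → T) × (I → T), XX W x y R uv = ⊤ := by
  classical
  have hsub : Subsingleton I := Fintype.card_le_one_iff_subsingleton.1 hI.le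
  obtain ⟨i₀⟩ : Nonempty I := Fintype.card_pos_iff.1 (by omega)
  obtain ⟨Ω, hΩ, hB⟩ := exists_label W hna hC x y i₀
  have h1 : 0 < Nat.card Ω := lt_of_lt_of_le (Nat.pow_pos Nat.card_pos) hΩ
  obtain ⟨uv, huv⟩ : Ω.Nonempty := by
    rw [Set.nonempty_iff_ne_empty]
    rintro rfl
    simp at h1
  have h2 : Big W (XX W x y R uv) i₀ := hB uv huv _ (subset_closure (by simp)) (subset_closure (by simp))
  refine ⟨uv, ?_⟩
  rcases dich W hna _ (XX_sup W h uv) i₀ h2 with h3 | h3 | ⟨S, hS, -⟩
  · exact h3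
  · exfalso
    obtain ⟨t, ht⟩ := exists_ne (1 : T)
    obtain ⟨z, hz, -, h4⟩ := h2 t
    have h5 : z ∈ M := by
      rw [W.mem]
      refine ⟨Subsingleton.elim _ _, fun i => ?_⟩
      rw [Subsingleton.elim i i₀, h4]
      exact ⟨t, rfl⟩
    have h6 : z ∈ XX W x y R uv ⊓ M := ⟨hz, h5⟩
    rw [h3, mem_bot] at h6
    rw [h6, f_one] at h4
    exact ht (conj_injective hna (h4.symm.trans (map_one _).symm))
  · exfalso
    apply hS
    ext i j
    constructor
    · intro _
      exact Subsingleton.elim i j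
    · intro h4
      have h5 : i = j := h4
      rw [h5]

/-- at least three components -/
theorem many_comp (hna : ¬ IsMulCommutative T) (hC : Cos2 T) (hN : OutNum T) (hI : 3 ≤ Fintype.card I)
    (h60 : 60 ≤ Nat.card T) {x y : G} {R : Set G}
    (h : closure ({x, y} ∪ R) ⊔ M = ⊤) : ∃ uv : (I → T) × (I → T), XX W x y R uv = ⊤ := by
  classical
  let _ := Fintype.ofFinite T
  obtain ⟨i₀⟩ : Nonempty I := Fintype.card_pos_iff.1 (by omega)
  obtain ⟨Ω, hΩ, hB⟩ := exists_label W hna hC x y i₀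
  by_contra hne
  push Not at hne
  obtain ⟨κ, hκ, hc1⟩ := card_typeI W hna x y R i₀
  set n := Fintype.card I with hn
  set s := Nat.card T with hs
  set o := Nat.card (Cfsg.Out T) with ho
  have hA : Nat.card (MulAut T) = o * s := card_mulAut hna
  have := finite_mulAut T
  have ho1 : 1 ≤ o := Nat.card_pos
  have hκ' : s ^ κ ≤ n.factorial * o ^ n := hκ.trans (card_quot_le W)
  let 𝓑 : Finset (Finset I) := (Finset.univ : Finset (Finset I)).filter fun B => i₀ ∈ B ∧ 2 ≤ B.card ∧ B.card ∣ n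
  let cls : Setoid I → Finset I := fun S => Finset.univ.filter fun i => S i₀ i
  have hnum := numeric (κ := κ) hI ho1 h60 hN.2 hκ' rfl i₀
  -- the bad sets
  let bad1 : Finset ((I → T) × (I → T)) := Finset.univ.filter fun uv =>
    XX W x y R uv ⊔ M = ⊤ ∧ XX W x y R uv ⊓ M = ⊥ ∧ Big W (XX W x y R uv) i₀
  let bad2 : Finset I → Finset ((I → T) × (I → T)) := fun B => Finset.univ.filter fun uv =>
    ∃ S : Setoid I, S ≠ ⊥ ∧ Inv W S ∧ cls S = B ∧ TypeII W (XX W x y R uv) S
  have hb1 : bad1.card ≤ κ * (o * s) * s ^ (n - 1) := by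
    have h1 : bad1.card = Nat.card {uv : (I → T) × (I → T) // XX W x y R uv ⊔ M = ⊤ ∧
        XX W x y R uv ⊓ M = ⊥ ∧ Big W (XX W x y R uv) i₀} := by
      rw [Nat.card_eq_fintype_card, Fintype.card_subtype]
    rw [h1, ← hA]
    exact hc1
  have hb2 : ∀ B ∈ 𝓑, (bad2 B).card ≤ (o * s) ^ (n - n / B.card) * s ^ (2 * (n / B.card)) := by
    intro B hB
    rcases (bad2 B).eq_empty_or_nonempty with h0 | ⟨uv0, h0⟩
    · rw [h0, Finset.card_empty]
      exact Nat.zero_le _
    · simp only [bad2, Finset.mem_filter, Finset.mem_univ, true_and] at h0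
      obtain ⟨S, hS, hSI, hSB, -⟩ := h0
      have h1 : bad2 B ⊆ Finset.univ.filter fun uv => TypeII W (XX W x y R uv) S := by
        intro uv huv
        simp only [bad2, Finset.mem_filter, Finset.mem_univ, true_and] at huv ⊢
        obtain ⟨S', -, hSI', hSB', h2⟩ := huv
        have h3 : S' = S := by
          refine inv_ext W hSI' hSI i₀ fun i => ?_
          have h4 := hSB'.trans hSB.symm
          have h5 := Finset.ext_iff.1 h4 i
          simpa [cls] using h5
        rwa [← h3]
      refine (Finset.card_le_card h1).trans ?_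
      have h2 : (Finset.univ.filter fun uv => TypeII W (XX W x y R uv) S).card =
          Nat.card {uv : (I → T) × (I → T) // TypeII W (XX W x y R uv) S} := by
        rw [Nat.card_eq_fintype_card, Fintype.card_subtype]
      rw [h2]
      have h3 := two_mul_card_quot W hSI hS i₀
      have h4 : Nat.card {i // S i₀ i} = B.card := by
        rw [← hSB, Nat.card_eq_fintype_card, Fintype.card_subtype]
      rw [h4] at h3
      have h5 : n / B.card = Nat.card (Quotient S) := by
        rw [hn, ← h3.1, Nat.mul_div_cancel _ (by omega)]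
      rw [h5, ← hA]
      exact card_typeII W hna x y R S
  have hcov : Ω.toFinset ⊆ bad1 ∪ 𝓑.biUnion bad2 := by
    intro uv huv
    rw [Set.mem_toFinset] at huv
    have h2 : Big W (XX W x y R uv) i₀ := hB uv huv _ (subset_closure (by simp)) (subset_closure (by simp))
    have h1 := XX_sup W h uv
    rw [Finset.mem_union, Finset.mem_biUnion]
    rcases dich W hna _ h1 i₀ h2 with h3 | h3 | ⟨S, hS, hSI, hS2⟩
    · exact absurd h3 (hne uv)
    · left
      simp only [bad1, Finset.mem_filter, Finset.mem_univ, true_and]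
      exact ⟨h1, h3, h2⟩
    · right
      have h4 := two_mul_card_quot W hSI hS i₀
      have h5 : Nat.card {i // S i₀ i} = (cls S).card := by
        rw [Nat.card_eq_fintype_card, Fintype.card_subtype]
      rw [h5] at h4
      refine ⟨cls S, ?_, ?_⟩
      · simp only [𝓑, Finset.mem_filter, Finset.mem_univ, true_and]
        refine ⟨?_, h4.2, ⟨_, by rw [mul_comm]; exact h4.1.symm⟩⟩
        simp only [cls, Finset.mem_filter, Finset.mem_univ, true_and]
        exact S.refl i₀
      · simp only [bad2, Finset.mem_filter, Finset.mem_univ, true_and]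
        exact ⟨S, hS, hSI, rfl, hS2⟩
  have h1 := Finset.card_le_card hcov
  have h2 : Ω.toFinset.card = Nat.card Ω := by
    rw [Set.toFinset_card, Nat.card_eq_fintype_card]
  have h3 := (Finset.card_union_le bad1 (𝓑.biUnion bad2)).trans
    (Nat.add_le_add hb1 (Finset.card_biUnion_le.trans (Finset.sum_le_sum hb2)))
  have h4 := h1.trans h3
  rw [h2, add_comm] at h4
  exact absurd (hΩ.trans h4) (not_le.2 hnum)

theorem two_aux (hI : Fintype.card I = 2) {a b : Equiv.Perm I} (ha : a ≠ 1) (hb : b ≠ 1) : a * b = 1 := by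
  have h1 : Fintype.card (Equiv.Perm I) = 2 := by rw [Fintype.card_perm, hI]; rfl
  have h2 : Nat.card (Equiv.Perm I) = 2 := by rw [Nat.card_eq_fintype_card, h1]
  by_contra h3
  have h4 : ({1, a, a * b} : Finset (Equiv.Perm I)).card ≤ 2 := by
    rw [← h1]
    exact Finset.card_le_univ _
  have h5 : a * b ≠ a := by
    intro h
    exact hb (mul_eq_left.1 h)
  rw [Finset.card_insert_of_notMem (by simp [Ne.symm ha, Ne.symm h3]),
    Finset.card_insert_of_notMem (by simpa using Ne.symm h5), Finset.card_singleton] at h4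
  omega

/-- tuples -/
theorem range_eq {e : ℕ} (g : Fin (e + 2) → G) :
    Set.range g = {g 0, g 1} ∪ Set.range (fun i : Fin e => g i.succ.succ) := by
  ext z
  constructor
  · rintro ⟨i, rfl⟩
    refine Fin.cases ?_ (fun j => ?_) i
    · left; simp
    · refine Fin.cases ?_ (fun k => ?_) j
      · left; right; rfl
      · right; exact ⟨k, rfl⟩
  · rintro ((rfl | hz) | ⟨i, rfl⟩)
    · exact ⟨0, rfl⟩
    · rw [Set.mem_singleton_iff] at hz
      exact ⟨1, hz.symm⟩
    · exact ⟨_, rfl⟩

theorem dgen_of_XX {e : ℕ} {x y : G} (r : Fin e → G) {uv : (I → T) × (I → T)}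
    (h : XX W x y (Set.range r) uv = ⊤) : DGen (e + 2) G := by
  refine ⟨Fin.cons (x * el W uv.1) (Fin.cons (y * el W uv.2) r), ?_⟩
  rw [range_eq]
  exact h

/-- the two reductions for two components -/
theorem exists_tuple (hI : Fintype.card I = 2) {e : ℕ} (g : Fin (e + 2) → G)
    (hg : closure (Set.range g) ⊔ M = ⊤) : ∃ g' : Fin (e + 2) → G, closure (Set.range g') ⊔ M = ⊤ ∧
      W.σ (g' 0) = 1 ∧ W.σ (g' 1) ≠ 1 := by
  classical
  obtain ⟨j, hj⟩ : ∃ j, W.σ (g j) ≠ 1 := by
    by_contra hne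
    push Not at hne
    have h1 : closure (Set.range g) ⊔ M ≤ W.σ.ker := by
      refine sup_le ?_ fun m hm => σ_mem W hm
      rw [closure_le]
      rintro _ ⟨i, rfl⟩
      exact hne i
    rw [hg] at h1
    obtain ⟨a, b, hab⟩ := Fintype.exists_pair_of_one_lt_card (α := I) (by omega)
    obtain ⟨x, hx⟩ := W.trans a b
    have h2 : W.σ x = 1 := h1 (mem_top x)
    rw [h2] at hx
    exact hab hx
  let g1 : Fin (e + 2) → G := fun i => g (Equiv.swap 1 j i)
  have hr1 : Set.range g1 = Set.range g := (Equiv.swap 1 j).surjective.range_comp g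
  have h1 : W.σ (g1 1) ≠ 1 := by
    show W.σ (g (Equiv.swap 1 j 1)) ≠ 1
    rwa [Equiv.swap_apply_left]
  by_cases h0 : W.σ (g1 0) = 1
  · exact ⟨g1, by rw [hr1, hg], h0, h1⟩
  · let g2 : Fin (e + 2) → G := Function.update g1 0 (g1 0 * g1 1)
    have e0 : g2 0 = g1 0 * g1 1 := Function.update_self _ _ _
    have ei : ∀ i, i ≠ 0 → g2 i = g1 i := fun i hi => Function.update_of_ne hi _ _
    have e1 : g2 1 = g1 1 := ei 1 (by simp)
    refine ⟨g2, ?_, ?_, ?_⟩
    · rw [eq_top_iff, ← hg, ← hr1]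
      refine sup_le_sup_right ?_ _
      rw [closure_le]
      rintro _ ⟨i, rfl⟩
      by_cases hi : i = 0
      · subst hi
        have e2 : g1 0 = g2 0 * (g2 1)⁻¹ := by rw [e0, e1]; group
        rw [e2]
        exact mul_mem (subset_closure ⟨0, rfl⟩) (inv_mem (subset_closure ⟨1, rfl⟩))
      · rw [← ei i hi]
        exact subset_closure ⟨i, rfl⟩
    · rw [e0, map_mul]
      exact two_aux hI h0 h1
    · rw [e1]
      exact h1

include W in
theorem wrGen_aux (hna : ¬ IsMulCommutative T) (hC : Cos2 T) (hN : OutNum T) (h60 : 60 ≤ Nat.card T) [Nonempty I]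
    (e : ℕ) (g : Fin (e + 2) → G) (hg : closure (Set.range g) ⊔ M = ⊤) : DGen (e + 2) G := by
  have hpos : 0 < Fintype.card I := Fintype.card_pos
  rcases (show Fintype.card I = 1 ∨ Fintype.card I = 2 ∨ 3 ≤ Fintype.card I by omega) with hI | hI | hI
  · rw [range_eq] at hg
    obtain ⟨uv, h⟩ := one_comp W hna hC hI hg
    exact dgen_of_XX W _ h
  · obtain ⟨g', hg', hx, hy⟩ := exists_tuple W hI g hg
    rw [range_eq] at hg'
    obtain ⟨uv, h⟩ := two_comp W hna hC hN hI (fun X hX i₀ hB => dich W hna X hX i₀ hB) hx hy _ (fun uv => XX_sup W hg' uv)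
    exact dgen_of_XX W _ h
  · rw [range_eq] at hg
    obtain ⟨uv, h⟩ := many_comp W hna hC hN hI h60 hg
    exact dgen_of_XX W _ h

/-- **The nonabelian case** for groups `G` with a wreath structure. -/
theorem wrGen (h60 : ∀ (T : Type u) [Group T] [Finite T] [IsSimpleGroup T], ¬ IsMulCommutative T → 60 ≤ Nat.card T) :
    WrGen.{u} := by
  intro G _ _ M _ I T _ _ _ _ _ _ hna W hC hN d hd hg
  obtain ⟨e, rfl⟩ : ∃ e, d = e + 2 := ⟨d - 2, by omega⟩
  obtain ⟨f, hf⟩ := hg
  choose g hg using fun i => QuotientGroup.mk'_surjective M (f i)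
  refine wrGen_aux W hna hC hN (h60 T hna) e g ?_
  have h1 : (closure (Set.range g)).map (QuotientGroup.mk' M) = ⊤ := by
    rw [MonoidHom.map_closure, ← hf]
    congr 1
    ext z
    constructor
    · rintro ⟨_, ⟨i, rfl⟩, rfl⟩
      exact ⟨i, (hg i).symm⟩
    · rintro ⟨i, rfl⟩
      exact ⟨_, ⟨i, rfl⟩, hg i⟩
  have h2 := congrArg (Subgroup.comap (QuotientGroup.mk' M)) h1
  rw [Subgroup.comap_map_eq, QuotientGroup.ker_mk', Subgroup.comap_top] at h2
  exact h2

end Cfsg.Agent.H891.DG.WrB
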