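import Cfsg.Agent.H891.DG.WrDich

/-!
# TEAM GEN, S4180: the case of two components (helper891)
-/

set_option autoImplicit false
set_option linter.unusedSectionVars false

namespace Cfsg.Agent.H891.DG.WrB

open Subgroup Cfsg.Agent.H891.DG Cfsg.Agent.H891.Gen
universe u

section Aut

variable {T : Type u} [Group T] [Finite T] [IsSimpleGroup T]

theorem card_centralizer_le (hna : ¬ IsMulCommutative T) (a : MulAut T) :
    Nat.card (centralizer ({a} : Set (MulAut T))) ≤
      Nat.card (Cfsg.Out T) * Nat.card (MonoidHom.eqLocus a.toMonoidHom (MonoidHom.id T)) := by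
  have hfin := finite_mulAut T
  set C := centralizer ({a} : Set (MulAut T)) with hC
  set N := (MulAut.conj : T →* MulAut T).range with hN
  set H := MonoidHom.eqLocus a.toMonoidHom (MonoidHom.id T) with hH
  have h1 : Nat.card (N.subgroupOf C) * (N.subgroupOf C).index = Nat.card C := (N.subgroupOf C).card_mul_index
  have h2 : (N.subgroupOf C).index ≤ Nat.card (Cfsg.Out T) := by
    have h3 : (N.subgroupOf C).index ∣ N.index := relIndex_dvd_index_of_normal N C
    exact Nat.le_of_dvd (Nat.pos_of_ne_zero (index_ne_zero_of_finite)) h3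
  have h3 : Nat.card (N.subgroupOf C) ≤ Nat.card H := by
    have key : ∀ w : ↥(N.subgroupOf C), ∃ t : H, MulAut.conj (t : T) = ((w : ↥C) : MulAut T) := by
      rintro ⟨⟨α, hα⟩, hw⟩
      obtain ⟨t, ht⟩ : α ∈ N := hw
      refine ⟨⟨t, ?_⟩, ht⟩
      show a t = t
      apply conj_injective hna
      rw [conj_map, ht]
      have h4 : a * α = α * a := (mem_centralizer_singleton_iff.1 hα).symm ▸ rfl
      rw [h4, mul_inv_cancel_right]
    choose g hg using key
    refine Nat.card_le_card_of_injective g ?_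
    intro w w' h
    apply Subtype.ext
    apply Subtype.ext
    rw [← hg w, ← hg w', h]
  rw [← h1, mul_comm]
  exact Nat.mul_le_mul h2 h3

/-- few square roots -/
theorem card_sqrt_lt (hna : ¬ IsMulCommutative T) (hN : OutNum T) {a : MulAut T} (ha : a ≠ 1) :
    Nat.card {θ : MulAut T // θ * θ = a} < Nat.card T := by
  have hfin := finite_mulAut T
  set H := MonoidHom.eqLocus a.toMonoidHom (MonoidHom.id T) with hH
  have h1 : H ≠ ⊤ := by
    intro h
    apply ha
    ext t
    have : t ∈ H := h ▸ mem_top t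
    exact this
  have h2 : Nat.card (Cfsg.Out T) < H.index := hN.1 H h1
  have h3 : Nat.card {θ : MulAut T // θ * θ = a} ≤ Nat.card (centralizer ({a} : Set (MulAut T))) := by
    have key : ∀ θ : MulAut T, θ * θ = a → θ ∈ centralizer ({a} : Set (MulAut T)) := by
      rintro θ rfl
      rw [mem_centralizer_singleton_iff, mul_assoc]
    refine Nat.card_le_card_of_injective (fun θ => ⟨θ.1, key _ θ.2⟩) ?_
    intro θ θ' h
    apply Subtype.ext
    have := congrArg Subtype.val h
    exact this
  calc _ ≤ _ := h3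
    _ ≤ _ := card_centralizer_le hna a
    _ < H.index * Nat.card H := Nat.mul_lt_mul_of_pos_right h2 Nat.card_pos
    _ = Nat.card T := H.index_mul_card

end Aut

variable {G : Type u} [Group G] [Finite G] {M : Subgroup G} [M.Normal] {I T : Type u} [Fintype I] [DecidableEq I]
  [Group T] [Finite T] [IsSimpleGroup T] (W : Wr G M I T)

/-- the group induced by the stabiliser of `i₀` in `X` -/
def Stab (X : Subgroup G) (i₀ : I) : Subgroup (MulAut T) where
  carrier := {α | ∃ z ∈ X, W.σ z i₀ = i₀ ∧ W.f z i₀ = α}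
  one_mem' := ⟨1, X.one_mem, by rw [map_one]; rfl, f_one W i₀⟩
  mul_mem' := by
    rintro _ _ ⟨z, hz, h1, rfl⟩ ⟨w, hw, h2, rfl⟩
    refine ⟨z * w, X.mul_mem hz hw, ?_, ?_⟩
    · rw [map_mul, Equiv.Perm.mul_apply, h2, h1]
    · rw [W.mul, h2]
  inv_mem' := by
    rintro _ ⟨z, hz, h1, rfl⟩
    refine ⟨z⁻¹, X.inv_mem hz, ?_, ?_⟩
    · have h := σ_inv W z i₀
      rwa [h1] at h
    · have h := f_inv W z i₀
      rwa [h1] at h

theorem big_of_lift {X : Subgroup G} {i₀ : I} {a₁ a₂ : MulAut T}
    (h : (MulAut.conj : T →* MulAut T).range ≤ closure ({a₁, a₂} : Set (MulAut T))) (h1 : a₁ ∈ Stab W X i₀)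
    (h2 : a₂ ∈ Stab W X i₀) : Big W X i₀ := by
  intro t
  have h3 : MulAut.conj t ∈ Stab W X i₀ := by
    have h4 : closure ({a₁, a₂} : Set (MulAut T)) ≤ Stab W X i₀ := by
      rw [closure_le]
      rintro z (rfl | hz)
      · exact h1
      · rw [Set.mem_singleton_iff] at hz
        exact hz ▸ h2
    exact h4 (h ⟨t, rfl⟩)
  obtain ⟨z, hz, h5, h6⟩ := h3
  exact ⟨z, hz, h5, h6⟩

/-- `X ∩ M = 1` is impossible -/
theorem inf_ne_bot (hna : ¬ IsMulCommutative T) (hN : OutNum T) (hI : Fintype.card I = 2) {X : Subgroup G} {i₀ : I}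
    (hB : Big W X i₀) : X ⊓ M ≠ ⊥ := by
  intro h
  have h1 : Nat.card X ≤ Nat.card (G ⧸ M) := by
    refine Nat.card_le_card_of_injective (fun z : X => (QuotientGroup.mk (z : G) : G ⧸ M)) ?_
    intro z w hzw
    have h2 : (z : G)⁻¹ * w ∈ X ⊓ M := ⟨X.mul_mem (X.inv_mem z.2) w.2, QuotientGroup.eq.1 hzw⟩
    rw [h, mem_bot, inv_mul_eq_one] at h2
    exact Subtype.ext h2
  have h2 : Nat.card T ≤ Nat.card X := by
    choose g hg h3 h4 using hB
    refine Nat.card_le_card_of_injective (fun t => (⟨g t, hg t⟩ : X)) ?_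
    intro t t' htt
    have h5 : g t = g t' := congrArg Subtype.val htt
    apply conj_injective hna
    rw [← h4 t, ← h4 t', h5]
  have h3 := card_quot_le W
  rw [hI] at h3
  have h4 := hN.2
  have h5 : 0 < Nat.card T := Nat.card_pos
  have h6 : (2 : ℕ).factorial = 2 := rfl
  rw [h6] at h3
  omega

/-- (Wg) the case of two components -/
theorem two_comp (hna : ¬ IsMulCommutative T) (hC : Cos2 T) (hN : OutNum T) (hI : Fintype.card I = 2)
    (hd : ∀ (X : Subgroup G), X ⊔ M = ⊤ → ∀ i₀, Big W X i₀ → X = ⊤ ∨ X ⊓ M = ⊥ ∨ ∃ S : Setoid I, S ≠ ⊥ ∧ Inv W S ∧ TypeII W X S)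
    {x y : G} (hx : W.σ x = 1) (hy : W.σ y ≠ 1) (R : Set G) (hg : ∀ uv, XX W x y R uv ⊔ M = ⊤) :
    ∃ uv : (I → T) × (I → T), XX W x y R uv = ⊤ := by
  classical
  have hfin := finite_mulAut T
  obtain ⟨i₀, hi₀⟩ : ∃ i₀, W.σ y i₀ ≠ i₀ := by
    by_contra hne
    push Not at hne
    exact hy (Equiv.ext hne)
  set i₁ := W.σ y i₀ with hi₁
  have hcov : ∀ i, i = i₀ ∨ i = i₁ := by
    intro i
    by_contra hne
    push Not at hne
    have h1 : ({i₀, i₁, i} : Finset I).card ≤ 2 := hI ▸ Finset.card_le_univ _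
    rw [Finset.card_insert_of_notMem (by simp [Ne.symm hi₀, Ne.symm hne.1]),
      Finset.card_insert_of_notMem (by simpa using Ne.symm hne.2), Finset.card_singleton] at h1
    omega
  have hy1 : W.σ y i₁ = i₀ := by
    rcases hcov (W.σ y i₁) with h | h
    · exact h
    · exfalso
      exact hi₀ ((W.σ y).injective (h.trans hi₁))
  obtain ⟨s, ⟨s0, hs0⟩, t, ⟨t0, ht0⟩, hle⟩ := hC (W.f x i₀) (W.f y i₁ * W.f y i₀)
  set a₁ := W.f x i₀ * s with ha₁
  set a₂ := W.f y i₁ * W.f y i₀ * t with ha₂
  have ha2 : a₂ ≠ 1 := by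
    intro h
    apply hna
    rw [h] at hle
    have h1 : ∀ a b : T, a * b = b * a := by
      intro a b
      apply conj_injective hna
      have h2 : closure ({a₁, 1} : Set (MulAut T)) ≤ zpowers a₁ := by
        rw [closure_le]
        rintro z (rfl | hz)
        · exact mem_zpowers _
        · rw [Set.mem_singleton_iff] at hz
          rw [hz]
          exact one_mem _
      obtain ⟨m, hm⟩ := mem_zpowers_iff.1 (h2 (hle ⟨a, rfl⟩))
      obtain ⟨n, hn⟩ := mem_zpowers_iff.1 (h2 (hle ⟨b, rfl⟩))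
      rw [map_mul, map_mul, ← hm, ← hn, ← zpow_add, ← zpow_add, add_comm]
    exact ⟨⟨h1⟩⟩
  -- the second component of `v`
  obtain ⟨w, hw⟩ : ∃ w : T, W.f y i₁ * MulAut.conj w * W.f y i₀ = a₂ := by
    refine ⟨W.f y i₀ t0, ?_⟩
    rw [conj_map, ht0, ha₂]
    group
  let u : T → I → T := fun c i => if i = i₀ then s0 else c
  let v : I → T := fun i => if i = i₀ then 1 else w
  by_contra hne
  push Not at hne
  have hz1 : ∀ c, x * el W (u c) ∈ XX W x y R (u c, v) := fun c => subset_closure (by simp)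
  have hz2 : ∀ c, y * el W v ∈ XX W x y R (u c, v) := fun c => subset_closure (by simp)
  have hσ1 : ∀ c, W.σ (x * el W (u c)) = 1 := fun c => by rw [σ_mul_mem W _ (el_mem W _), hx]
  have hσ2 : W.σ (y * el W v) = W.σ y := σ_mul_mem W _ (el_mem W _)
  have hf1 : ∀ c i, W.f (x * el W (u c)) i = W.f x i * MulAut.conj (u c i) := fun c i => by
    rw [f_mul_mem W _ (el_mem W _), f_el]
  have hf2 : ∀ i, W.f (y * el W v) i = W.f y i * MulAut.conj (v i) := fun i => by
    rw [f_mul_mem W _ (el_mem W _), f_el]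
  have hu0 : ∀ c, u c i₀ = s0 := fun c => if_pos rfl
  have hu1 : ∀ c, u c i₁ = c := fun c => if_neg hi₀
  have hv0 : v i₀ = 1 := if_pos rfl
  have hv1 : v i₁ = w := if_neg hi₀
  have hf10 : ∀ c, W.f (x * el W (u c)) i₀ = a₁ := fun c => by rw [hf1, hu0, hs0]
  have hf20 : W.f (y * el W v) i₀ = W.f y i₀ := by rw [hf2, hv0, map_one, mul_one]
  have hf21 : W.f (y * el W v) i₁ = W.f y i₁ * MulAut.conj w := by rw [hf2, hv1]
  -- every `c` is bad
  have key : ∀ c : T, ∃ ε : MulAut T, W.f x i₁ * MulAut.conj c = ε * a₁ * ε⁻¹ ∧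
      W.f y i₁ * MulAut.conj w = ε⁻¹ * W.f y i₀ * ε⁻¹ := by
    intro c
    have hB : Big W (XX W x y R (u c, v)) i₀ := by
      refine big_of_lift W hle ⟨_, hz1 c, by rw [hσ1]; rfl, hf10 c⟩ ?_
      refine ⟨(y * el W v) * (y * el W v), (XX W x y R (u c, v)).mul_mem (hz2 c) (hz2 c), ?_, ?_⟩
      · rw [map_mul, Equiv.Perm.mul_apply, hσ2, ← hi₁, hy1]
      · rw [W.mul, hσ2, ← hi₁, hf20, hf21, hw]
    rcases hd _ (hg _) i₀ hB with h | h | ⟨S, hS, -, ε, hε1, hε⟩
    · exact absurd h (hne _)
    · exact absurd h (inf_ne_bot W hna hN hI hB)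
    · have hall : ∀ i j, S i j := by
        have h1 : ∃ i j, i ≠ j ∧ S i j := by
          by_contra hcon
          push Not at hcon
          apply hS
          ext i j
          constructor
          · intro hij
            by_contra hij'
            exact hcon i j hij' hij
          · intro hij
            have h5 : i = j := hij
            rw [h5]
        obtain ⟨i, j, hij, h2⟩ := h1
        have h3 : S i₀ i₁ := by
          rcases hcov i with rfl | rfl
          · rcases hcov j with rfl | rfl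
            · exact absurd rfl hij
            · exact h2
          · rcases hcov j with rfl | rfl
            · exact S.symm h2
            · exact absurd rfl hij
        intro a b
        rcases hcov a with rfl | rfl
        · rcases hcov b with rfl | rfl
          · exact S.refl _
          · exact h3
        · rcases hcov b with rfl | rfl
          · exact S.symm h3
          · exact S.refl _
      have hrep : ∀ i, rep S i = rep S i₀ := by
        intro i
        unfold rep
        congr 1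
        exact Quotient.sound (hall i i₀)
      have e1 := hε _ (hz1 c)
      have e2 := hε _ (hz2 c)
      simp only [hσ1, Equiv.Perm.one_apply, hσ2, hrep] at e1 e2
      rcases hcov (rep S i₀) with hr | hr
      · rw [hr] at e1 e2
        have h1 : ε i₀ = 1 := hε1 i₀ hr
        have e3 := e1 i₁
        have e4 := e2 i₁
        rw [hf10, hf1, hu1, h1, inv_one, mul_one] at e3
        rw [hf20, hf21, hy1, ← hi₁, h1, one_mul] at e4
        refine ⟨ε i₁, eq_mul_inv_of_mul_eq e3, ?_⟩
        rw [← e4, mul_inv_cancel_right]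
      · rw [hr] at e1 e2
        have h1 : ε i₁ = 1 := by
          refine hε1 i₁ ?_
          rw [hrep, hr]
        have e3 := e1 i₀
        have e4 := e2 i₀
        rw [hf10, hf1, hu1, h1, inv_one, mul_one] at e3
        rw [hf20, hf21, hy1, ← hi₁, h1, one_mul] at e4
        refine ⟨(ε i₀)⁻¹, ?_, ?_⟩
        · rw [mul_assoc, inv_inv, e3, inv_mul_cancel_left]
        · rw [inv_inv, mul_assoc, e4, mul_inv_cancel_left]
  choose ε hε1 hε2 using key
  have hlt := card_sqrt_lt hna hN ha2
  have hle2 : Nat.card T ≤ Nat.card {θ : MulAut T // θ * θ = a₂} := by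
    refine Nat.card_le_card_of_injective (fun c => ⟨(ε c)⁻¹ * W.f y i₀, ?_⟩) ?_
    · rw [← hw, hε2 c]
      group
    · intro c c' h
      have h1 : (ε c)⁻¹ * W.f y i₀ = (ε c')⁻¹ * W.f y i₀ := congrArg Subtype.val h
      have h2 : ε c = ε c' := inv_injective (mul_right_cancel h1)
      have h3 := hε1 c
      rw [h2, ← hε1 c'] at h3
      exact conj_injective hna (mul_left_cancel h3)
  omega

end Cfsg.Agent.H891.DG.WrB
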